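import Cfsg.Agent.Lib.Known.TwistInvol.Coord
import Cfsg.Agent.Lib.Chev.Twist.F4Main

/-!
# Tools for the involutions of the groups of type ²F₄

Layers stable under the twist, the relation between the coordinates of a fixed element, elements of
the twisted group with a prescribed coordinate, and the effect of a conjugation.
-/

set_option autoImplicit false
set_option maxRecDepth 20000
set_option synthInstance.maxSize 4000

namespace CfsgLib.Chev.TwistInvol.F4

open Cfsg.Lie CfsgLib.Chev.Table CfsgLib.Chev.EvenInvol CfsgLib.Chev.LacedInvol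

universe v

/-- A layer stable under the twist. -/
def lyB (L M : List ℕ) : Bool :=
  coordB chevF4 (L ++ M) && layerB DataF4.tab L M &&
    L.all (fun r => L.elem (parF4.rho r)) && M.all (fun r => M.elem (parF4.rho r))

theorem layer {L M : List ℕ} (h : lyB L M = true) : Layer chevF4 DataF4.tab L M := by
  simp only [lyB, Bool.and_eq_true] at h
  exact ⟨DataF4.facts, DataF4.chk_arrays, DataF4.chk_chain, DataF4.short, h.1.1.1, h.1.1.2⟩

/-- The word of a list of orbits on the nodes. -/
def wordO (ws : List (Fin TwF4.spec.length)) : List (Fin chevF4.rank) :=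
  ws.flatMap fun o => (TwF4.O o).word

/-- The image of a root under a list of orbit reflections. -/
def img (ws : List (Fin TwF4.spec.length)) (r : ℕ) : ℕ := act chevF4 ((wordO ws).map Fin.val) r

variable {K : Type v} [Field K] [Fintype K] {m : ℕ} (C : TwF4.Ctx K m) [CharP K 2]
include C

/-- The twisted group. -/
local notation "G" => twistedF4 K (2 ^ m)

theorem coef_eq {r : ℕ} (hr : r < chevF4.nroots) (t : K) :
    parF4.coef C.f r t = C.f t ^ parF4.lam r := by
  rcases parF4_ok.eps_pm r hr with he | he <;> simp [TwPar.coef, he, CharTwo.neg_eq]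

theorem coef_add {r : ℕ} (hr : r < chevF4.nroots) (a b : K) :
    parF4.coef C.f r (a + b) = parF4.coef C.f r a + parF4.coef C.f r b := by
  simp only [coef_eq C hr]
  rcases parF4_ok.lam_ok r hr with h | ⟨h, -⟩
  · simp [h]
  · rw [h, show parF4.p = 2 from rfl, map_add, CharTwo.add_sq]

theorem coef_zero {r : ℕ} (hr : r < chevF4.nroots) : parF4.coef C.f r 0 = 0 := by
  simp only [coef_eq C hr, map_zero]
  rcases parF4_ok.lam_ok r hr with h | ⟨h, -⟩ <;> simp [h, show parF4.p = 2 from rfl]

/-- The coordinates of a fixed element agree with the twist. -/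
theorem rel {L M : List ℕ} (h : lyB L M = true) {g : GL chevF4.Idx K} (hg : g ∈ fixS C.σ)
    {f : ℕ → K} (hf : IsCd chevF4 L M g f) :
    ∀ r ∈ L, f (parF4.rho r) = parF4.coef C.f r (f r) := by
  have hl := layer h
  simp only [lyB, Bool.and_eq_true, List.all_eq_true, List.elem_eq_mem, decide_eq_true_eq] at h
  obtain ⟨⟨-, hL⟩, hM⟩ := h
  have hlt : ∀ r ∈ L, r < chevF4.nroots := fun r hr => hl.mem_lt (List.mem_append_left M hr)
  have hnd : L.Nodup := (List.nodup_append.1 (Facts.coord_nodup hl.coord)).1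
  set φ : (ℕ → K) → ℕ → K := fun e k =>
    (L.map fun r => if parF4.rho r = k then parF4.coef C.f r (e r) else 0).sum with hφ
  have h1 := hl.map_cd C.sig.hC hl (Img C.σ) Img.one (fun _ _ _ _ a b => a.mul b)
    (fun _ _ _ a b => a.unique b) φ
    (fun e e' => by
      funext k
      simp only [hφ, Pi.add_apply, ← List.sum_map_add]
      refine congrArg List.sum (List.map_congr_left fun r hr => ?_)
      split_ifs
      · exact coef_add C (hlt r hr) _ _
      · rw [add_zero])
    (by
      funext k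
      simp only [hφ, Pi.zero_apply]
      refine List.sum_eq_zero fun x hx => ?_
      obtain ⟨r, hr, rfl⟩ := List.mem_map.1 hx
      split_ifs
      · exact coef_zero C (hlt r hr)
      · rfl)
    (fun e e' hee k _ => congrArg List.sum (List.map_congr_left fun r hr => by rw [hee r hr]))
    (fun r hr c => by
      refine ⟨_, C.sig.img_xU (hlt r hr) c, hl.congr C.sig.hC (hl.gen C.sig.hC (hL r hr) _) ?_⟩
      intro k _
      simp only [hφ, single]
      have key : ∀ l : List ℕ, l.Nodup → (∀ s ∈ l, s ∈ L) →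
          (l.map fun s => if parF4.rho s = k then parF4.coef C.f s (if s = r then c else 0) else 0).sum
            = if r ∈ l ∧ parF4.rho r = k then parF4.coef C.f r c else 0 := by
        intro l
        induction l with
        | nil => simp
        | cons s l ih =>
          intro hn hsub
          rw [List.nodup_cons] at hn
          rw [List.map_cons, List.sum_cons, ih hn.2 fun x hx => hsub x (List.mem_cons_of_mem _ hx)]
          by_cases hs : s = r
          · subst hs; simp [hn.1]
          · simp [hs, Ne.symm hs, coef_zero C (hlt s (hsub s (by simp)))]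
      rw [key L hnd fun _ hx => hx]
      simp [hr, eq_comm])
    (fun r hr c => ⟨_, C.sig.img_xU (hl.mem_lt (List.mem_append_right L hr)) c,
      xU_mem_rootClosure (parF4_ok.rho_lt r (hl.mem_lt (List.mem_append_right L hr))) (hM r hr) _⟩)
    (mem_fixS.1 hg) hf
  intro r hr
  rw [hl.unique C.sig.hC hf h1 _ (hL r hr), hφ]
  have key : ∀ l : List ℕ, l.Nodup → (∀ s ∈ l, s ∈ L) →
      (l.map fun s => if parF4.rho s = parF4.rho r then parF4.coef C.f s (f s) else 0).sum =
        if r ∈ l then parF4.coef C.f r (f r) else 0 := by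
    intro l
    induction l with
    | nil => simp
    | cons s l ih =>
      intro hn hsub
      rw [List.nodup_cons] at hn
      rw [List.map_cons, List.sum_cons, ih hn.2 fun x hx => hsub x (List.mem_cons_of_mem _ hx)]
      by_cases hs : parF4.rho s = parF4.rho r
      · obtain rfl := parF4_ok.rho_inj s (hlt s (hsub s (by simp))) r (hlt r hr) hs
        simp [hn.1]
      · have : r ≠ s := fun e => hs (by rw [e])
        simp [hs, this]
  simp only
  rw [key L hnd fun _ hs => hs, if_pos hr]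

/-- A fixed element whose coordinates vanish on representatives of the pairs lies below. -/
theorem mem_below {L M : List ℕ} (h : lyB L M = true) {g : GL chevF4.Idx K} (hg : g ∈ fixS C.σ)
    {f : ℕ → K} (hf : IsCd chevF4 L M g f) (S : List ℕ)
    (hS : L.all (fun r => S.any fun s => L.elem s && (r == s || r == parF4.rho s)) = true)
    (h0 : ∀ s ∈ S, f s = 0) : g ∈ rootClosure chevF4 K (· ∈ M) := by
  refine (layer h).mem_of_zero C.sig.hC hf fun r hr => ?_
  have := List.all_eq_true.1 hS r hr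
  simp only [List.any_eq_true, Bool.and_eq_true, List.elem_eq_mem, decide_eq_true_eq,
    Bool.or_eq_true, beq_iff_eq] at this
  obtain ⟨s, hsS, hsL, rfl | rfl⟩ := this
  · exact h0 r hsS
  · rw [rel C h hg hf s hsL, h0 s hsS, coef_zero C ((layer h).mem_lt (List.mem_append_left M hsL))]

theorem f_surj (d : K) : ∃ t, C.f t = d := ⟨C.f d ^ 2, C.theta' d⟩

theorem exists_n (ws : List (Fin TwF4.spec.length)) :
    ∃ n ∈ G, PermAct n (sW chevF4 (wordO ws)) := by
  induction ws with
  | nil =>
    refine ⟨1, Subgroup.one_mem _, ?_⟩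
    have := DataF4.facts.permAct_nW (F := K) ([] : List (Fin chevF4.rank))
    rwa [nW_nil] at this
  | cons o ws ih =>
    obtain ⟨n, hn, hp⟩ := ih
    refine ⟨C.sys.nO o * n, Subgroup.mul_mem _ (C.sys.nO_mem o) hn, ?_⟩
    rw [wordO, List.flatMap_cons, sW_append]
    exact DataF4.facts.permAct_mul (C.sys.nO_perm o) hp

/-- An element of the twisted group on the images of a pair, with a prescribed first coordinate. -/
theorem elemA (ws : List (Fin TwF4.spec.length)) {L M : List ℕ} (h : lyB L M = true)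
    (hmem : (L.elem (img ws f4p1) && L.elem (img ws f4p4) && !Nat.beq (img ws f4p1) (img ws f4p4)) = true)
    (d : K) :
    ∃ y ∈ G, ∃ f, IsCd chevF4 L M y f ∧ f (img ws f4p1) = d ∧
      ∀ k, k ≠ img ws f4p1 → k ≠ img ws f4p4 → f k = 0 := by
  simp only [Bool.and_eq_true, List.elem_eq_mem, decide_eq_true_eq, Bool.not_eq_true'] at hmem
  obtain ⟨⟨h1, h2⟩, h3⟩ := hmem
  have hne : img ws f4p4 ≠ img ws f4p1 := fun e => by rw [e] at h3; simp at h3
  have hgen : ∀ t : K, wU chevF4 [(f4p1, C.f t), (f4p4, t)] ∈ G := fun t => by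
    have := C.mem_gen (Or.inl ⟨t, Or.inl rfl⟩)
    rwa [f4PairWord, ← C.hf] at this
  have hlt : ∀ t u : K, ∀ p ∈ [(f4p1, t), (f4p4, u)], p.1 < chevF4.nroots := by
    intro t u p hp
    simp only [List.mem_cons, List.not_mem_nil, or_false] at hp
    have e : f4p1 < chevF4.nroots ∧ f4p4 < chevF4.nroots := by decide +kernel
    rcases hp with rfl | rfl
    exacts [e.1, e.2]
  -- the scalar does not depend on the parameter
  obtain ⟨n, hn, hp⟩ := exists_n C ws
  obtain ⟨c, hc, hconj, -⟩ := hp ⟨f4p1, hlt 0 0 (f4p1, 0) (by simp)⟩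
  obtain ⟨c', hc', hconj', -⟩ := hp ⟨f4p4, hlt 0 0 (f4p4, 0) (by simp)⟩
  obtain ⟨t, ht⟩ := f_surj C (d / c)
  refine ⟨n * wU chevF4 [(f4p1, C.f t), (f4p4, t)] * n⁻¹,
    Subgroup.mul_mem _ (Subgroup.mul_mem _ hn (hgen t)) (Subgroup.inv_mem _ hn),
    single (img ws f4p1) d + single (img ws f4p4) (c' * t), ?_, ?_, ?_⟩
  rotate_left
  · simp [single, Ne.symm hne]
  · intro k hk hk'
    simp [single, hk, hk']
  · rw [DataF4.facts.sW_val_foldr] at hconj hconj'
    rw [show n * wU chevF4 [(f4p1, C.f t), (f4p4, t)] * n⁻¹ =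
      (n * xU chevF4 f4p1 (C.f t) * n⁻¹) * (n * xU chevF4 f4p4 t * n⁻¹) by simp [wU, mul_assoc],
      hconj, hconj', ht, mul_div_cancel₀ d hc]
    exact (layer h).mul C.sig.hC ((layer h).gen C.sig.hC h1 d) ((layer h).gen C.sig.hC h2 _)

/-- An element of the twisted group on the images of a quadruple, with a prescribed first
coordinate and the third one zero. -/
theorem elemB (ws : List (Fin TwF4.spec.length)) {L M : List ℕ} (h : lyB L M = true)
    (hmem : (L.elem (img ws f4a) && (L ++ M).elem (img ws f4b) && (L ++ M).elem (img ws f4ab) &&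
      (L ++ M).elem (img ws f4aab) &&
      !Nat.beq (img ws f4a) (img ws f4b) && !Nat.beq (img ws f4a) (img ws f4aab)) = true)
    (d : K) :
    ∃ y ∈ G, ∃ f, IsCd chevF4 L M y f ∧ f (img ws f4a) = d ∧
      ∀ k, k ≠ img ws f4a → k ≠ img ws f4b → k ≠ img ws f4aab → f k = 0 := by
  simp only [Bool.and_eq_true, List.elem_eq_mem, decide_eq_true_eq, Bool.not_eq_true'] at hmem
  obtain ⟨⟨⟨⟨⟨h1, h2⟩, h3⟩, h4⟩, h5⟩, h6⟩ := hmem
  have hne : img ws f4b ≠ img ws f4a := fun e => by rw [e] at h5; simp at h5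
  have hne' : img ws f4aab ≠ img ws f4a := fun e => by rw [e] at h6; simp at h6
  have hN : ∀ r ∈ [f4a, f4b, f4ab, f4aab], r < chevF4.nroots := by decide +kernel
  obtain ⟨n, hn, hp⟩ := exists_n C ws
  obtain ⟨c1, hc1, e1, -⟩ := hp ⟨f4a, hN _ (by simp)⟩
  obtain ⟨c2, -, e2, -⟩ := hp ⟨f4b, hN _ (by simp)⟩
  obtain ⟨c4, -, e4, -⟩ := hp ⟨f4aab, hN _ (by simp)⟩
  obtain ⟨t, ht⟩ := f_surj C (d / c1)
  set u : K := t ^ (2 ^ m + 1) with hu
  have hy : wU chevF4 (b2ClassWord (2 ^ m) f4a f4b f4ab f4aab t u) =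
      xU chevF4 f4a (C.f t) * (xU chevF4 f4b t * xU chevF4 f4aab (u ^ (2 * 2 ^ m))) := by
    simp [wU, b2ClassWord, ← hu, C.hf, CharTwo.add_self_eq_zero, DataF4.facts.xU_zero (hN f4ab (by simp))]
  refine ⟨n * wU chevF4 (b2ClassWord (2 ^ m) f4a f4b f4ab f4aab t u) * n⁻¹,
    Subgroup.mul_mem _ (Subgroup.mul_mem _ hn (C.mem_gen (Or.inr ⟨t, u, Or.inl rfl⟩)))
    (Subgroup.inv_mem _ hn), fun k => (if img ws f4a = k then d else 0) +
      ((if img ws f4b = k then c2 * t else 0) +
        ((if img ws f4aab = k then c4 * u ^ (2 * 2 ^ m) else 0) + 0)), ?_, ?_, ?_⟩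
  rotate_left
  · simp [hne, hne']
  · intro k hk hk' hk''
    simp [Ne.symm hk, Ne.symm hk', Ne.symm hk'']
  · rw [DataF4.facts.sW_val_foldr, ← act, ← img] at e1 e2 e4
    rw [hy, show ∀ x y z : GL chevF4.Idx K, n * (x * (y * z)) * n⁻¹ =
      (n * x * n⁻¹) * ((n * y * n⁻¹) * ((n * z * n⁻¹) * 1)) from fun x y z => by group,
      e1, e2, e4, ht, mul_div_cancel₀ d hc1]
    have := (layer h).word C.sig.hC
      (w := [(img ws f4a, d), (img ws f4b, c2 * t), (img ws f4aab, c4 * u ^ (2 * 2 ^ m))]) (by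
        intro p hp
        simp only [List.mem_cons, List.not_mem_nil, or_false] at hp
        rcases hp with rfl | rfl | rfl
        exacts [List.mem_append_left M h1, h2, h4])
    simpa only [wU, List.map_cons, List.map_nil, List.prod_cons, List.prod_nil, List.sum_cons,
      List.sum_nil] using this

/-- An element of the twisted group on the images of the centre of a quadruple. -/
theorem elemZ (ws : List (Fin TwF4.spec.length)) {L M : List ℕ} (h : lyB L M = true)
    (hmem : (L.elem (img ws f4ab) && (L ++ M).elem (img ws f4aab) &&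
      !Nat.beq (img ws f4ab) (img ws f4aab)) = true) (d : K) :
    ∃ y ∈ G, ∃ f, IsCd chevF4 L M y f ∧ f (img ws f4ab) = d ∧
      ∀ k, k ≠ img ws f4ab → k ≠ img ws f4aab → f k = 0 := by
  simp only [Bool.and_eq_true, List.elem_eq_mem, decide_eq_true_eq, Bool.not_eq_true'] at hmem
  obtain ⟨⟨h1, h2⟩, h3⟩ := hmem
  have hne : img ws f4aab ≠ img ws f4ab := fun e => by rw [e] at h3; simp at h3
  have hN : ∀ r ∈ [f4a, f4b, f4ab, f4aab], r < chevF4.nroots := by decide +kernel
  obtain ⟨n, hn, hp⟩ := exists_n C ws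
  obtain ⟨c3, hc3, e3, -⟩ := hp ⟨f4ab, hN _ (by simp)⟩
  obtain ⟨c4, -, e4, -⟩ := hp ⟨f4aab, hN _ (by simp)⟩
  have hy : ∀ u : K, wU chevF4 (b2ClassWord (2 ^ m) f4a f4b f4ab f4aab 0 u) =
      xU chevF4 f4ab u * xU chevF4 f4aab (u ^ (2 * 2 ^ m)) := fun u => by
    simp [wU, b2ClassWord, DataF4.facts.xU_zero (hN f4a (by simp)),
      DataF4.facts.xU_zero (hN f4b (by simp))]
  refine ⟨n * wU chevF4 (b2ClassWord (2 ^ m) f4a f4b f4ab f4aab 0 (d / c3)) * n⁻¹,
    Subgroup.mul_mem _ (Subgroup.mul_mem _ hn (C.mem_gen (Or.inr ⟨0, d / c3, Or.inl rfl⟩)))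
    (Subgroup.inv_mem _ hn), fun k => (if img ws f4ab = k then d else 0) +
      ((if img ws f4aab = k then c4 * (d / c3) ^ (2 * 2 ^ m) else 0) + 0), ?_, ?_, ?_⟩
  rotate_left
  · simp [hne]
  · intro k hk hk'
    simp [Ne.symm hk, Ne.symm hk']
  · rw [DataF4.facts.sW_val_foldr, ← act, ← img] at e3 e4
    rw [hy, show ∀ x y : GL chevF4.Idx K, n * (x * y) * n⁻¹ =
      (n * x * n⁻¹) * ((n * y * n⁻¹) * 1) from fun x y => by group, e3, e4,
      mul_div_cancel₀ d hc3]
    have := (layer h).word C.sig.hC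
      (w := [(img ws f4ab, d), (img ws f4aab, c4 * (d / c3) ^ (2 * 2 ^ m))]) (by
        intro p hp
        simp only [List.mem_cons, List.not_mem_nil, or_false] at hp
        rcases hp with rfl | rfl
        exacts [List.mem_append_left M h1, h2])
    simpa only [wU, List.map_cons, List.map_nil, List.prod_cons, List.prod_nil, List.sum_cons,
      List.sum_nil] using this

theorem cd_inv {L M : List ℕ} (h : lyB L M = true) {g : GL chevF4.Idx K} {f : ℕ → K}
    (hg : IsCd chevF4 L M g f) : IsCd chevF4 L M g⁻¹ f := by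
  have hl := layer h
  obtain ⟨f', hf'⟩ := hl.exists_cd C.sig.hC (Subgroup.inv_mem _ (hl.isCd_mem hg))
  have h1 := hl.mul C.sig.hC hg hf'
  rw [mul_inv_cancel] at h1
  refine hl.congr C.sig.hC hf' fun r hr => ?_
  have := hl.unique C.sig.hC h1 (hl.of_mem C.sig.hC (Subgroup.one_mem _)) r hr
  simp only [Pi.add_apply, Pi.zero_apply, CharTwo.add_eq_zero] at this
  exact this.symm

/-- The coordinates after a conjugation of `X * w`. -/
theorem conj_cd {L M : List ℕ} (h : lyB L M = true) {X w y : GL chevF4.Idx K} (hX : X * X = 1)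
    {φ : (ℕ → K) → ℕ → K}
    (hφ : ∀ g f, IsCd chevF4 L M g f → IsCd chevF4 L M (X * g * X) (φ f))
    {fw fy : ℕ → K} (hw : IsCd chevF4 L M w fw) (hy : IsCd chevF4 L M y fy) :
    ∃ w', y * (X * w) * y⁻¹ = X * w' ∧ IsCd chevF4 L M w' (φ fy + fw + fy) := by
  refine ⟨X * y * X * w * y⁻¹, ?_, (layer h).mul C.sig.hC
    ((layer h).mul C.sig.hC (hφ _ _ hy) hw) (cd_inv C h hy)⟩
  simp only [← mul_assoc, hX, one_mul]

/-- An involution `X * w` gives a fixed coordinate vector. -/
theorem fixed_cd {L M : List ℕ} (h : lyB L M = true) {X w : GL chevF4.Idx K}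
    {φ : (ℕ → K) → ℕ → K}
    (hφ : ∀ g f, IsCd chevF4 L M g f → IsCd chevF4 L M (X * g * X) (φ f))
    (hu : X * w * (X * w) = 1) {fw : ℕ → K} (hw : IsCd chevF4 L M w fw) :
    ∀ r ∈ L, φ fw r = fw r := by
  have h1 := (layer h).mul C.sig.hC (hφ _ _ hw) hw
  rw [show X * w * X * w = X * w * (X * w) by group, hu] at h1
  intro r hr
  have := (layer h).unique C.sig.hC h1 ((layer h).of_mem C.sig.hC (Subgroup.one_mem _)) r hr
  simpa [CharTwo.add_eq_zero] using this

end CfsgLib.Chev.TwistInvol.F4
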