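import Cfsg.Agent.Lib.Known.EvenInvol.MonomialFix
import Cfsg.Agent.Lib.Chev.Twist.Fix
import Cfsg.Agent.Lib.Chev.Twist.Words

/-!
# Coordinates on an abelian layer of a unipotent group in characteristic two

For lists `L`, `M` of positive roots such that the root elements of `L` commute modulo the subgroup
of `M`, an element of the subgroup of `L ++ M` has additive coordinates along `L`.
-/

set_option autoImplicit false
set_option synthInstance.maxSize 4000

namespace CfsgLib.Chev.TwistInvol

open Cfsg.Lie CfsgLib.Chev.Table CfsgLib.Chev.EvenInvol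

universe v

/-- The table check of a layer `L` over `M`. -/
def layerB (T : Tab) (L M : List ℕ) : Bool :=
  L.all (fun i => Nat.blt i T.nroots && (L ++ M).all fun j => !Nat.beq j (T.neg i) &&
    (Nat.beq j i || (termsT T i j).all fun c => decide (c.2.1 % 2 = 0) || M.elem c.1)) &&
  M.all (fun j => Nat.blt j T.nroots)

/-- The table check of the action of the root `p` on a layer: the odd terms in `L` are linear, and
their roots and exponents are those of `Δ`. -/
def actB (T : Tab) (L M : List ℕ) (p : ℕ) (Δ : List (ℕ × ℕ × ℕ)) : Bool :=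
  Nat.blt p T.nroots && (L ++ M).all (fun r => !Nat.beq r p && !Nat.beq r (T.neg p) &&
    (termsT T p r).all fun c => decide (c.2.1 % 2 = 0) || M.elem c.1 ||
      (L.elem r && L.elem c.1 && Nat.beq c.2.2.2 1)) &&
  L.all (fun r => (((termsT T p r).filter fun c => decide (c.2.1 % 2 = 1) && L.elem c.1).map
      fun c => (c.1, c.2.2.1)) == (Δ.filter fun e => Nat.beq e.1 r).map fun e => (e.2.1, e.2.2)) &&
  Δ.all (fun e => L.elem e.1)

variable {D : ChevalleyDatum} {T : Tab} {F : Type v} [Field F]

/-- `f` gives the coordinates of `g` along `L` modulo `M`. -/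
def IsCd (D : ChevalleyDatum) (L M : List ℕ) (g : GL D.Idx F) (f : ℕ → F) : Prop :=
  (PF D L f)⁻¹ * g ∈ rootClosure D F (· ∈ M)

/-- The coordinates of a single root element. -/
def single (r : ℕ) (c : F) : ℕ → F := fun k => if k = r then c else 0

/-- The action of a root element on coordinates. -/
def actF (Δ : List (ℕ × ℕ × ℕ)) (a : F) (f : ℕ → F) : ℕ → F := fun k =>
  f k + (Δ.map fun e => if e.2.1 = k then a ^ e.2.2 * f e.1 else 0).sum

structure Layer (D : ChevalleyDatum) (T : Tab) (L M : List ℕ) : Prop where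
  facts : Facts D T.co
  arr : T.chkArrays D = true
  chain : T.chkChain D = true
  short : ShortChains D
  coord : coordB D (L ++ M) = true
  chk : layerB T L M = true

section

variable {L M : List ℕ} (h : Layer D T L M)
include h

theorem Layer.mem_lt {r : ℕ} (hr : r ∈ L ++ M) : r < D.nroots := (Facts.coord_lt h.coord r hr).1

theorem Layer.pf_mem (f : ℕ → F) : PF D L f ∈ rootClosure D F (· ∈ L ++ M) :=
  Subgroup.list_prod_mem _ fun x hx => by
    obtain ⟨r, hr, rfl⟩ := List.mem_map.1 hx
    exact xU_mem_rootClosure (h.mem_lt (List.mem_append_left _ hr)) (List.mem_append_left _ hr) _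

theorem Layer.isCd_mem {g : GL D.Idx F} {f : ℕ → F} (hg : IsCd D L M g f) :
    g ∈ rootClosure D F (· ∈ L ++ M) := by
  have := Subgroup.mul_mem _ (h.pf_mem f)
    (rootClosure_mono (fun s _ hs => List.mem_append_right L hs) hg)
  rwa [mul_inv_cancel_left] at this

variable (hC : CommF.{v} D) [CharP F 2]
include hC

theorem Layer.swap {i j : ℕ} (hi : i ∈ L) (hj : j ∈ L ++ M) (a b : F) :
    ∃ z ∈ rootClosure D F (· ∈ M), xU D j b * xU D i a = xU D i a * xU D j b * z := by
  have hF := h.facts
  have hiN := h.mem_lt (List.mem_append_left M hi)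
  have hjN := h.mem_lt hj
  by_cases he : j = i
  · subst he
    exact ⟨1, Subgroup.one_mem _, by rw [mul_one, hF.xU_add hiN, hF.xU_add hiN, add_comm]⟩
  have hc := h.chk
  simp only [layerB, Bool.and_eq_true, List.all_eq_true] at hc
  obtain ⟨hne, hterm⟩ := (hc.1 i hi).2 j hj
  have hneg : j ≠ D.neg i := fun e => by
    rw [neg_eq h.arr hiN] at e; rw [e] at hne; simp at hne
  refine ⟨wU D (cwR D i j a b), wU_mem fun p hp => ?_, hF.xU_comm hC hiN hjN he hneg a b⟩
  obtain ⟨c, hc', rfl⟩ := List.mem_map.1 hp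
  have hc1 := (LacedInvol.co_term hF hC hiN hjN hc').1
  rw [termsT_eq h.arr h.chain h.short hiN hjN] at hc'
  rw [Bool.or_eq_true, Nat.beq_eq, List.all_eq_true] at hterm
  have h1 := hterm.resolve_left he c hc'
  simp only [Bool.or_eq_true, decide_eq_true_eq, List.elem_eq_mem] at h1
  rcases h1 with h1 | h1
  · show xU D c.1 _ ∈ _
    rw [cast_even h1, zero_mul, zero_mul, hF.xU_zero hc1]
    exact Subgroup.one_mem _
  · exact xU_mem_rootClosure hc1 h1 _

theorem Layer.norm {g : GL D.Idx F} (hg : g ∈ rootClosure D F (· ∈ L ++ M)) :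
    g ∈ Subgroup.normalizer (rootClosure D F (· ∈ M) : Set (GL D.Idx F)) := by
  refine (show rootClosure D F (· ∈ L ++ M) ≤
      Subgroup.normalizer (rootClosure D F (· ∈ M) : Set (GL D.Idx F)) from ?_) hg
  refine (Subgroup.closure_le _).2 ?_
  rintro x ⟨i, a, hi, hiL, rfl⟩
  rcases List.mem_append.1 hiL with hiL | hiM
  swap
  · exact Subgroup.le_normalizer (xU_mem_rootClosure hi hiM a)
  have key : ∀ b : F, ∀ y ∈ rootClosure D F (· ∈ M),
      xU D i b * y * (xU D i b)⁻¹ ∈ rootClosure D F (· ∈ M) := by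
    intro b y hy
    refine conj_closure (fun z hz => ?_) hy
    obtain ⟨j, c, hj, hjM, rfl⟩ := hz
    obtain ⟨z, hz, e⟩ := h.swap hC hiL (List.mem_append_right L hjM) (-b) c
    rw [h.facts.xU_inv hi, mul_assoc, e, ← mul_assoc, ← mul_assoc, h.facts.xU_add hi,
      add_neg_cancel, h.facts.xU_zero hi, one_mul]
    exact Subgroup.mul_mem _ (xU_mem_rootClosure hj hjM c) hz
  refine normalizer_of_conj (key a) fun y hy => ?_
  have := key (-a) y hy
  rwa [← h.facts.xU_inv hi, inv_inv] at this

theorem Layer.pf_add (f f' : ℕ → F) :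
    ∀ L' : List ℕ, (∀ r ∈ L', r ∈ L) →
      (PF D L' (f + f'))⁻¹ * (PF D L' f * PF D L' f') ∈ rootClosure D F (· ∈ M) := by
  intro L'
  induction L' with
  | nil => intro _; simp [PF]
  | cons r L' ih =>
    intro hL
    have hrL := hL r (by simp)
    have hrN := h.mem_lt (List.mem_append_left M hrL)
    have hL' : ∀ x ∈ L', x ∈ L := fun x hx => hL x (List.mem_cons_of_mem _ hx)
    -- move the head to the left
    have hmove : ∀ K : List ℕ, (∀ x ∈ K, x ∈ L) → ∃ z ∈ rootClosure D F (· ∈ M),
        PF D K f * xU D r (f' r) = xU D r (f' r) * PF D K f * z := by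
      intro K
      induction K with
      | nil => intro _; exact ⟨1, Subgroup.one_mem _, by simp [PF]⟩
      | cons k K ihK =>
        intro hK
        obtain ⟨z, hz, e⟩ := ihK fun x hx => hK x (List.mem_cons_of_mem _ hx)
        obtain ⟨z', hz', e'⟩ := h.swap hC hrL (List.mem_append_left M (hK k (by simp))) (f' r) (f k)
        have hKm : PF D K f ∈ rootClosure D F (· ∈ L ++ M) := Subgroup.list_prod_mem _ fun x hx => by
          obtain ⟨q, hq, rfl⟩ := List.mem_map.1 hx
          exact xU_mem_rootClosure (h.mem_lt (List.mem_append_left M (hK q (List.mem_cons_of_mem _ hq))))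
            (List.mem_append_left M (hK q (List.mem_cons_of_mem _ hq))) _
        refine ⟨(PF D K f)⁻¹ * z' * PF D K f * z, Subgroup.mul_mem _ ?_ hz, ?_⟩
        · have := (Subgroup.mem_normalizer_iff.1 (h.norm hC (Subgroup.inv_mem _ hKm)) z').1 hz'
          rwa [inv_inv] at this
        · rw [show PF D (k :: K) f = xU D k (f k) * PF D K f by simp [PF]]
          calc xU D k (f k) * PF D K f * xU D r (f' r)
              = xU D k (f k) * xU D r (f' r) * PF D K f * z := by rw [mul_assoc, e]; group
            _ = xU D r (f' r) * xU D k (f k) * z' * PF D K f * z := by rw [e']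
            _ = _ := by group
    obtain ⟨z, hz, e⟩ := hmove L' hL'
    have e2 : ∀ g : ℕ → F, PF D (r :: L') g = xU D r (g r) * PF D L' g := fun g => by simp [PF]
    have hf'm : PF D L' f' ∈ rootClosure D F (· ∈ L ++ M) := Subgroup.list_prod_mem _ fun x hx => by
      obtain ⟨q, hq, rfl⟩ := List.mem_map.1 hx
      exact xU_mem_rootClosure (h.mem_lt (List.mem_append_left M (hL' q hq)))
        (List.mem_append_left M (hL' q hq)) _
    rw [e2, e2, e2, show xU D r (f r) * PF D L' f * (xU D r (f' r) * PF D L' f') =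
      xU D r (f r) * (PF D L' f * xU D r (f' r)) * PF D L' f' by group, e,
      Pi.add_apply, ← h.facts.xU_add hrN,
      show (xU D r (f r) * xU D r (f' r) * PF D L' (f + f'))⁻¹ *
        (xU D r (f r) * (xU D r (f' r) * PF D L' f * z) * PF D L' f') =
        ((PF D L' (f + f'))⁻¹ * (PF D L' f * PF D L' f')) *
          ((PF D L' f')⁻¹ * z * PF D L' f') by group]
    refine Subgroup.mul_mem _ (ih hL') ?_
    have := (Subgroup.mem_normalizer_iff.1 (h.norm hC (Subgroup.inv_mem _ hf'm)) z).1 hz
    rwa [inv_inv] at this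

/-- Coordinates are additive. -/
theorem Layer.mul {g g' : GL D.Idx F} {f f' : ℕ → F} (hg : IsCd D L M g f)
    (hg' : IsCd D L M g' f') : IsCd D L M (g * g') (f + f') := by
  have h1 := h.pf_add hC f f' L fun _ hr => hr
  have h2 := (Subgroup.mem_normalizer_iff.1
    (h.norm hC (Subgroup.inv_mem _ (h.pf_mem f'))) _).1 hg
  rw [inv_inv] at h2
  have := Subgroup.mul_mem _ (Subgroup.mul_mem _ h1 h2) hg'
  rwa [IsCd, show (PF D L (f + f'))⁻¹ * (g * g') =
    (PF D L (f + f'))⁻¹ * (PF D L f * PF D L f') *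
      ((PF D L f')⁻¹ * ((PF D L f)⁻¹ * g) * PF D L f') * ((PF D L f')⁻¹ * g') by group]

theorem Layer.of_mem {g : GL D.Idx F} (hg : g ∈ rootClosure D F (· ∈ M)) : IsCd D L M g 0 := by
  have := hC
  have e : PF D L (0 : ℕ → F) = 1 := List.prod_eq_one fun x hx => by
    obtain ⟨r, hr, rfl⟩ := List.mem_map.1 hx
    exact h.facts.xU_zero (h.mem_lt (List.mem_append_left M hr))
  rwa [IsCd, e, inv_one, one_mul]

theorem Layer.congr {g : GL D.Idx F} {f f' : ℕ → F} (hg : IsCd D L M g f)
    (e : ∀ r ∈ L, f r = f' r) : IsCd D L M g f' := by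
  have := hC
  rwa [IsCd, show PF D L f' = PF D L f from
    congrArg List.prod (List.map_congr_left fun r hr => by rw [e r hr])]

theorem Layer.gen {r : ℕ} (hr : r ∈ L) (c : F) : IsCd D L M (xU D r c) (single r c) := by
  have := hC
  have hnd := (List.nodup_append.1 (Facts.coord_nodup h.coord)).1
  have key : ∀ K : List ℕ, (∀ x ∈ K, x ∈ L) → K.Nodup →
      PF D K (single r c) = if r ∈ K then xU D r c else 1 := by
    intro K
    induction K with
    | nil => intro _ _; simp [PF]
    | cons k K ih =>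
      intro hK hKn
      rw [List.nodup_cons] at hKn
      rw [show PF D (k :: K) (single r c) = xU D k (single r c k) * PF D K (single r c) by simp [PF],
        ih (fun x hx => hK x (List.mem_cons_of_mem _ hx)) hKn.2]
      by_cases e : k = r
      · subst e
        simp [single, hKn.1]
      · rw [single, if_neg e, h.facts.xU_zero (h.mem_lt (List.mem_append_left M (hK k (by simp)))),
          one_mul]
        simp [List.mem_cons, Ne.symm e]
  rw [IsCd, key L (fun _ hx => hx) hnd, if_pos hr, inv_mul_cancel]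
  exact Subgroup.one_mem _

theorem Layer.gen_or {r : ℕ} (hr : r ∈ L ++ M) (c : F) :
    IsCd D L M (xU D r c) (if r ∈ L then single r c else 0) := by
  split_ifs with hrL
  · exact h.gen hC hrL c
  · exact h.of_mem hC (xU_mem_rootClosure (h.mem_lt hr) ((List.mem_append.1 hr).resolve_left hrL) c)

/-- The coordinates of a product of root elements. -/
theorem Layer.word {w : List (ℕ × F)} (hw : ∀ p ∈ w, p.1 ∈ L ++ M) :
    IsCd D L M (wU D w) (fun k => (w.map fun p => if p.1 = k then p.2 else 0).sum) := by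
  induction w with
  | nil => exact h.of_mem hC (Subgroup.one_mem _)
  | cons p w ih =>
    rw [wU_cons]
    refine h.congr hC (h.mul hC (h.gen_or hC (hw p (by simp)) p.2)
      (ih fun q hq => hw q (List.mem_cons_of_mem _ hq))) fun k hk => ?_
    simp only [Pi.add_apply, List.map_cons, List.sum_cons]
    congr 1
    by_cases e : p.1 = k
    · subst e; simp [hk, single]
    · split_ifs <;> simp [single, Ne.symm e]

theorem Layer.exists_cd {g : GL D.Idx F} (hg : g ∈ rootClosure D F (· ∈ L ++ M)) :
    ∃ f, IsCd D L M g f := by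
  induction hg using Subgroup.closure_induction_left with
  | one => exact ⟨0, h.of_mem hC (Subgroup.one_mem _)⟩
  | mul_left x hx y _ ih =>
    obtain ⟨r, c, -, hr, rfl⟩ := hx
    obtain ⟨f, hf⟩ := ih
    exact ⟨_, h.mul hC (h.gen_or hC hr c) hf⟩
  | inv_mul_cancel x hx y _ ih =>
    obtain ⟨r, c, hrN, hr, rfl⟩ := hx
    obtain ⟨f, hf⟩ := ih
    rw [h.facts.xU_inv hrN]
    exact ⟨_, h.mul hC (h.gen_or hC hr (-c)) hf⟩

variable [Finite F]

/-- The coordinates are unique. -/
theorem Layer.unique {g : GL D.Idx F} {f f' : ℕ → F} (hg : IsCd D L M g f)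
    (hg' : IsCd D L M g f') : ∀ r ∈ L, f r = f' r := by
  have hcM : ∀ x ∈ rootClosure D F (· ∈ M), ∃ us, us.length = M.length ∧ x = wU D (M.zip us) := by
    have key : ∀ A : List ℕ, coordB D (A ++ M) = true → coordB D M = true := by
      intro A
      induction A with
      | nil => exact id
      | cons a A ih =>
        intro hA
        simp only [List.cons_append, coordB, Bool.and_eq_true] at hA
        exact ih hA.2
    exact fun x hx => h.facts.exists_coords hC (key L h.coord) x hx
  have hPF : ∀ e : ℕ → F, PF D L e = wU D (L.zip (L.map e)) := by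
    intro e
    generalize L = K
    induction K with
    | nil => simp [PF, wU]
    | cons k K ih => rw [List.map_cons, List.zip_cons_cons, wU_cons, ← ih]; simp [PF]
  obtain ⟨us, hus, e1⟩ := hcM _ hg
  obtain ⟨us', hus', e2⟩ := hcM _ hg'
  rw [inv_mul_eq_iff_eq_mul, hPF, ← wU_append, ← List.zip_append (by simp)] at e1
  rw [inv_mul_eq_iff_eq_mul, hPF, ← wU_append, ← List.zip_append (by simp)] at e2
  have := h.facts.coords_unique hC h.coord (ts := L.map f ++ us) (ts' := L.map f' ++ us')
    (by simp [hus]) (by simp [hus']) (e1.symm.trans e2)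
  intro r hr
  exact List.map_inj_left.1 ((List.append_inj this (by simp)).1) r hr

omit [Finite F] in
theorem Layer.mem_of_zero {g : GL D.Idx F} {f : ℕ → F} (hg : IsCd D L M g f)
    (e : ∀ r ∈ L, f r = 0) : g ∈ rootClosure D F (· ∈ M) := by
  have := h.congr hC hg (f' := 0) e
  have e0 := h.of_mem hC (Subgroup.one_mem (rootClosure D F (· ∈ M)))
  rw [IsCd] at this e0
  have h2 := Subgroup.mul_mem _ (Subgroup.inv_mem _ e0) this
  simpa [mul_assoc] using h2

/-- An additive transformation of coordinates from the root elements of the layer. -/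
theorem Layer.map_cd {L' M' : List ℕ} (h' : Layer D T L' M') (R : GL D.Idx F → GL D.Idx F → Prop)
    (hone : R 1 1) (hmul : ∀ a a' b b', R a a' → R b b' → R (a * b) (a' * b'))
    (huniq : ∀ a a' a'', R a a' → R a a'' → a' = a'')
    (φ : (ℕ → F) → ℕ → F) (hadd : ∀ e e', φ (e + e') = φ e + φ e')
    (hzero : φ 0 = 0) (hdep : ∀ e e', (∀ r ∈ L, e r = e' r) → ∀ r ∈ L', φ e r = φ e' r)
    (hgen : ∀ r ∈ L, ∀ c : F, ∃ x, R (xU D r c) x ∧ IsCd D L' M' x (φ (single r c)))
    (hM : ∀ r ∈ M, ∀ c : F, ∃ x, R (xU D r c) x ∧ x ∈ rootClosure D F (· ∈ M'))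
    {g g' : GL D.Idx F} (hgg : R g g') {f : ℕ → F} (hf : IsCd D L M g f) :
    IsCd D L' M' g' (φ f) := by
  suffices H : ∀ g ∈ rootClosure D F (· ∈ L ++ M), ∃ f x, IsCd D L M g f ∧ R g x ∧
      IsCd D L' M' x (φ f) by
    obtain ⟨f1, x, h1, h2, h3⟩ := H g (h.isCd_mem hf)
    obtain rfl := huniq _ _ _ hgg h2
    exact h'.congr hC h3 fun r hr => (hdep f f1 (h.unique hC hf h1) r hr).symm
  have gen : ∀ r, r ∈ L ++ M → ∀ c : F, ∃ f x, IsCd D L M (xU D r c) f ∧ R (xU D r c) x ∧
      IsCd D L' M' x (φ f) := fun r hr c => by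
    rcases List.mem_append.1 hr with hL | hM'
    · obtain ⟨x, hx, hcd⟩ := hgen r hL c
      exact ⟨_, x, h.gen hC hL c, hx, hcd⟩
    · obtain ⟨x, hx, hmem⟩ := hM r hM' c
      exact ⟨0, x, h.of_mem hC (xU_mem_rootClosure (h.mem_lt hr) hM' c), hx,
        by rw [hzero]; exact h'.of_mem hC hmem⟩
  intro g hg
  induction hg using Subgroup.closure_induction_left with
  | one => exact ⟨0, 1, h.of_mem hC (Subgroup.one_mem _), hone,
      by rw [hzero]; exact h'.of_mem hC (Subgroup.one_mem _)⟩
  | mul_left x hx y _ ih =>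
    obtain ⟨r, c, -, hr, rfl⟩ := hx
    obtain ⟨f1, x1, a1, a2, a3⟩ := gen r hr c
    obtain ⟨f2, x2, b1, b2, b3⟩ := ih
    exact ⟨_, _, h.mul hC a1 b1, hmul _ _ _ _ a2 b2, by rw [hadd]; exact h'.mul hC a3 b3⟩
  | inv_mul_cancel x hx y _ ih =>
    obtain ⟨r, c, hrN, hr, rfl⟩ := hx
    obtain ⟨f1, x1, a1, a2, a3⟩ := gen r hr (-c)
    obtain ⟨f2, x2, b1, b2, b3⟩ := ih
    rw [← h.facts.xU_inv hrN] at a1 a2
    exact ⟨_, _, h.mul hC a1 b1, hmul _ _ _ _ a2 b2, by rw [hadd]; exact h'.mul hC a3 b3⟩

/-- The action of a root element on coordinates. -/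
theorem Layer.act {p : ℕ} {Δ : List (ℕ × ℕ × ℕ)} (hact : actB T L M p Δ = true) (a : F)
    {g : GL D.Idx F} {f : ℕ → F} (hf : IsCd D L M g f) :
    IsCd D L M (xU D p a * g * (xU D p a)⁻¹) (actF Δ a f) := by
  have hF := h.facts
  simp only [actB, Bool.and_eq_true, List.all_eq_true, Nat.blt_eq, Bool.not_eq_true'] at hact
  obtain ⟨⟨⟨hp, hterm⟩, hΔ⟩, hΔL⟩ := hact
  have hpN : p < D.nroots := by rw [nroots_eq h.arr]; exact hp
  have conj : ∀ r ∈ L ++ M, ∀ c : F, ∃ w : List (ℕ × F), (∀ e ∈ w, e.1 < D.nroots) ∧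
      w = (termsT T p r).map (fun t => (t.1, (t.2.1 : F) * a ^ t.2.2.1 * c ^ t.2.2.2)) ∧
      xU D p a * xU D r c * (xU D p a)⁻¹ = xU D r c * wU D w := by
    intro r hr c
    have hrN := h.mem_lt hr
    obtain ⟨⟨h1, h2⟩, -⟩ := hterm r hr
    have hne : r ≠ p := fun e => by rw [e] at h1; simp at h1
    have hneg : r ≠ D.neg p := fun e => by
      rw [neg_eq h.arr hpN] at e; rw [e] at h2; simp at h2
    refine ⟨_, fun e he => ?_, rfl, ?_⟩
    · obtain ⟨t, ht, rfl⟩ := List.mem_map.1 he
      rw [← termsT_eq h.arr h.chain h.short hpN hrN] at ht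
      exact (LacedInvol.co_term hF hC hpN hrN ht).1
    rw [hF.xU_inv hpN, mul_assoc, hF.xU_comm hC hpN hrN hne hneg, ← mul_assoc, ← mul_assoc,
      hF.xU_add hpN, add_neg_cancel, hF.xU_zero hpN, one_mul, cwR,
      termsT_eq h.arr h.chain h.short hpN hrN]
    simp [CharTwo.neg_eq]
  have even : ∀ {w : List (ℕ × F)} {S : Subgroup (GL D.Idx F)},
      (∀ e ∈ w, xU D e.1 e.2 ∈ S) → wU D w ∈ S := fun h => wU_mem h
  refine h.map_cd hC h (fun x x' => xU D p a * x * (xU D p a)⁻¹ = x') (by simp)
    (fun _ _ _ _ e e' => by rw [← e, ← e']; group) (fun _ _ _ e e' => e.symm.trans e')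
    (actF Δ a) ?_ ?_ ?_ ?_ ?_ rfl hf
  · intro e e'
    funext k
    simp only [actF, Pi.add_apply]
    rw [show (Δ.map fun x => if x.2.1 = k then a ^ x.2.2 * (e x.1 + e' x.1) else 0) =
      Δ.map (fun x => (if x.2.1 = k then a ^ x.2.2 * e x.1 else 0) +
        (if x.2.1 = k then a ^ x.2.2 * e' x.1 else 0)) from
      List.map_congr_left fun x _ => by split_ifs <;> simp [mul_add], List.sum_map_add]
    ring
  · funext k; simp [actF]
  · intro e e' hee k hk
    simp only [actF]
    rw [show (Δ.map fun x => if x.2.1 = k then a ^ x.2.2 * e x.1 else 0) =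
      Δ.map (fun x => if x.2.1 = k then a ^ x.2.2 * e' x.1 else 0) from
      List.map_congr_left fun x hx => by rw [hee x.1 (by simpa using hΔL x hx)]]
    rw [hee k hk]
  · intro r hr c
    obtain ⟨w, hwN, hw, e⟩ := conj r (List.mem_append_left M hr) c
    refine ⟨_, rfl, ?_⟩
    rw [e]
    set W := (termsT T p r).filter fun t => decide (t.2.1 % 2 = 1) with hW
    have hval : ∀ l : List (ℕ × ℤ × ℕ × ℕ), (∀ t ∈ l, t.1 < D.nroots) →
        wU D (l.map fun t => (t.1, (t.2.1 : F) * a ^ t.2.2.1 * c ^ t.2.2.2)) =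
          wU D ((l.filter fun t => decide (t.2.1 % 2 = 1)).map fun t =>
            (t.1, a ^ t.2.2.1 * c ^ t.2.2.2)) := by
      intro l
      induction l with
      | nil => intro _; rfl
      | cons t l ih =>
        intro hl
        rw [List.map_cons, wU_cons, ih fun x hx => hl x (List.mem_cons_of_mem _ hx)]
        rcases Int.emod_two_eq_zero_or_one t.2.1 with h0 | h0
        · rw [List.filter_cons_of_neg (by simp [h0]), cast_even h0, zero_mul, zero_mul,
            hF.xU_zero (hl t (by simp)), one_mul]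
        · have h1 : (t.2.1 : F) = 1 := by
            obtain ⟨q, hq⟩ : ∃ q, t.2.1 = 2 * q + 1 := ⟨t.2.1 / 2, by omega⟩
            rw [hq]; push_cast; rw [CharTwo.two_eq_zero, zero_mul, zero_add]
          rw [List.filter_cons_of_pos (by simp [h0]), List.map_cons, wU_cons, h1, one_mul]
    rw [hw, hval _ fun t ht => hwN _ (hw ▸ List.mem_map.2 ⟨t, ht, rfl⟩), ← hW]
    clear_value W
    have hodd : ∀ t ∈ W, t.1 ∈ M ∨ (t.1 ∈ L ∧ t.2.2.2 = 1) := by
      intro t ht
      rw [hW, List.mem_filter, decide_eq_true_eq] at ht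
      have h3 := (hterm r (List.mem_append_left M hr)).2 t ht.1
      simp only [Bool.or_eq_true, decide_eq_true_eq, List.elem_eq_mem, Bool.and_eq_true,
        Nat.beq_eq] at h3
      rcases h3 with (h3 | h3) | h3
      · omega
      · exact Or.inl h3
      · exact Or.inr ⟨h3.1.2, h3.2⟩
    have hwL : ∀ q ∈ W.map (fun t => (t.1, a ^ t.2.2.1 * c ^ t.2.2.2)), q.1 ∈ L ++ M := by
      intro q hq
      obtain ⟨t, ht, rfl⟩ := List.mem_map.1 hq
      rcases hodd t ht with h3 | h3
      · exact List.mem_append_right L h3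
      · exact List.mem_append_left M h3.1
    have h5 := h.mul hC (h.gen hC hr c) (h.word hC hwL)
    refine h.congr hC h5 fun k hk => ?_
    simp only [Pi.add_apply, actF]
    congr 1
    have hkM : k ∉ M := fun hM' =>
      (List.nodup_append.1 (Facts.coord_nodup h.coord)).2.2 k hk k hM' rfl
    -- both sums run over the terms in the layer
    have hr' := hΔ r hr
    rw [beq_iff_eq] at hr'
    have e1 : ∀ l : List (ℕ × ℤ × ℕ × ℕ), (∀ t ∈ l, t.1 ∈ M ∨ (t.1 ∈ L ∧ t.2.2.2 = 1)) →
        ((l.map fun t => (t.1, a ^ t.2.2.1 * c ^ t.2.2.2)).map fun q => if q.1 = k then q.2 else 0).sum =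
          (((l.filter fun t => L.elem t.1).map fun t => (t.1, t.2.2.1)).map fun q =>
            if q.1 = k then a ^ q.2 * c else 0).sum := by
      intro l
      induction l with
      | nil => intro _; rfl
      | cons t l ih =>
        intro hl
        have := ih fun x hx => hl x (List.mem_cons_of_mem _ hx)
        by_cases htL : t.1 ∈ L
        · have hj : t.2.2.2 = 1 := (hl t (by simp)).elim
            (fun hM' => absurd htL fun hL =>
              (List.nodup_append.1 (Facts.coord_nodup h.coord)).2.2 t.1 hL t.1 hM' rfl)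
            fun h3 => h3.2
          rw [List.filter_cons_of_pos (by simpa using htL)]
          simp only [List.map_cons, List.sum_cons, hj, pow_one, this]
        · rw [List.filter_cons_of_neg (by simpa using htL)]
          simp only [List.map_cons, List.sum_cons, this]
          rw [if_neg (fun e2 : t.1 = k => htL (e2.symm ▸ hk)), zero_add]
    rw [e1 W hodd, hW, List.filter_filter,
      show (fun t : ℕ × ℤ × ℕ × ℕ => L.elem t.1 && decide (t.2.1 % 2 = 1)) =
        fun t => decide (t.2.1 % 2 = 1) && L.elem t.1 from funext fun t => Bool.and_comm _ _, hr']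
    have e2 : ∀ l : List (ℕ × ℕ × ℕ), (((l.filter fun e => Nat.beq e.1 r).map fun e =>
        (e.2.1, e.2.2)).map fun q => if q.1 = k then a ^ q.2 * c else 0).sum =
        (l.map fun e => if e.2.1 = k then a ^ e.2.2 * single r c e.1 else 0).sum := by
      intro l
      induction l with
      | nil => rfl
      | cons t l ih =>
        by_cases ht : t.1 = r
        · rw [List.filter_cons_of_pos (by simp [ht])]
          simp only [List.map_cons, List.sum_cons, ih, single, ht, if_true]
        · rw [List.filter_cons_of_neg (by simpa using ht)]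
          simp only [List.map_cons, List.sum_cons, ih, single, ht, if_false, mul_zero, ite_self,
            zero_add]
    exact e2 Δ
  · intro r hr c
    obtain ⟨w, hwN, hw, e⟩ := conj r (List.mem_append_right L hr) c
    refine ⟨_, rfl, ?_⟩
    rw [e]
    refine Subgroup.mul_mem _ (xU_mem_rootClosure (h.mem_lt (List.mem_append_right L hr)) hr c)
      (wU_mem fun q hq => ?_)
    obtain ⟨t, ht, rfl⟩ := List.mem_map.1 (hw ▸ hq)
    have ht1 := hwN _ hq
    have h3 := (hterm r (List.mem_append_right L hr)).2 t ht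
    have hrL : r ∉ L := fun hL => (List.nodup_append.1 (Facts.coord_nodup h.coord)).2.2 r hL r hr rfl
    simp only [Bool.or_eq_true, decide_eq_true_eq, List.elem_eq_mem, Bool.and_eq_true, hrL,
      false_and, or_false] at h3
    rcases h3 with h3 | h3
    · show xU D t.1 _ ∈ _
      rw [cast_even h3, zero_mul, zero_mul, hF.xU_zero ht1]
      exact Subgroup.one_mem _
    · exact xU_mem_rootClosure ht1 h3 _

end

end CfsgLib.Chev.TwistInvol
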