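import Cfsg.Agent.Lib.Known.TwistInvol.E6FusionData

/-!
# The involution classes of the groups of type ²E₆ in characteristic two
-/

set_option autoImplicit false
set_option maxRecDepth 20000
set_option synthInstance.maxSize 4000
set_option Elab.async false

namespace CfsgLib.Chev.TwistInvol.E6

open Cfsg.Lie CfsgLib.Chev.Table CfsgLib.Chev.EvenInvol CfsgLib.Chev.LacedInvol

universe v

/-- The fixed orbits of the representatives. -/
theorem reps_ok : E6Invol.cert.reps = [[71], [68, 66], [55, 65, 67]] ∧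
    fixB 71 = true ∧ pairB 68 66 = true ∧ fixB 65 = true ∧ pairB 55 67 = true ∧
    pairT DataE6.tab [55, 65, 67] = true := by
  decide +kernel

variable {K : Type v} [Field K] [Fintype K] {q : ℕ} (C : TwE6.Ctx K q) [CharP K 2]
include C

/-- The twisted group. -/
local notation "G" => twistedE6 K q

omit [CharP K 2] in
theorem exists_two_pow [CharP K 2] : ∃ a, 0 < a ∧ q = 2 ^ a := by
  obtain ⟨n, -, hn⟩ := FiniteField.card K 2
  have h : q ∣ 2 ^ (n : ℕ) := by rw [← hn, C.card, sq]; exact Dvd.intro q rfl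
  obtain ⟨a, -, rfl⟩ := (Nat.dvd_prime_pow Nat.prime_two).1 h
  exact ⟨a, Nat.pos_of_ne_zero fun e => by have := C.q_gt; simp [e] at this, rfl⟩

theorem exists_conj_pos {g : GL chevE6.Idx K} (hg : g ∈ G) (h : g * g = 1) :
    ∃ u ∈ G, u ∈ rootClosure chevE6 K (chevE6.nroots / 2 ≤ ·) ∧ Cj C g u := by
  have : Fact (Nat.Prime 2) := ⟨Nat.prime_two⟩
  set U : Subgroup (GL chevE6.Idx K) := chevE6.posUnipotent K ⊓ twistedE6 K q
  set U' := U.subgroupOf (twistedE6 K q)
  obtain ⟨a, ha, hq⟩ := exists_two_pow C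
  have hcU : Nat.card U' = q ^ 36 := by
    rw [Nat.card_congr (Subgroup.subgroupOfEquivOfLe inf_le_right).toEquiv, C.card_posU]
  have hidx : ¬ 2 ∣ U'.index := by
    have e := U'.card_mul_index
    rw [hcU] at e
    have h2 := C.card_twisted
    rw [← e, mul_left_comm] at h2
    simp only [mul_assoc] at h2
    have h3 := Nat.eq_of_mul_eq_mul_left (pow_pos (by have := C.q_gt; omega) _) h2
    intro hd
    have hdd := dvd_mul_of_dvd_right hd (Nat.gcd 3 (q + 1))
    rw [h3] at hdd
    have hq2 : 2 ∣ q := hq ▸ dvd_pow_self 2 ha.ne'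
    have hpos : 0 < q := by have := C.q_gt; omega
    have odd : ∀ j, 0 < j → ¬ 2 ∣ q ^ j + 1 := fun j hj => by
      have := dvd_pow hq2 hj.ne'
      omega
    have odd' : ∀ j, 0 < j → ¬ 2 ∣ q ^ j - 1 := fun j hj => by
      have := dvd_pow hq2 hj.ne'
      have := pow_pos hpos j
      omega
    simp only [Nat.prime_two.dvd_mul] at hdd
    rcases hdd with hd | hd | hd | hd | hd | hd
    exacts [odd' 2 (by norm_num) hd, odd 5 (by norm_num) hd, odd' 6 (by norm_num) hd,
      odd' 8 (by norm_num) hd, odd 9 (by norm_num) hd, odd' 12 (by norm_num) hd]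
  let S : Sylow 2 ↥(twistedE6 K q) :=
    (IsPGroup.of_card (n := a * 36) (by rw [hcU, hq, ← pow_mul])).toSylow hidx
  have hz : IsPGroup 2 (Subgroup.zpowers (⟨g, hg⟩ : ↥(twistedE6 K q))) := by
    rintro ⟨x, n, rfl⟩
    refine ⟨1, Subtype.ext (Subtype.ext ?_)⟩
    have : (g ^ n) ^ (2 : ℕ) = 1 := by
      rw [← zpow_natCast, ← zpow_mul, mul_comm, zpow_mul, Nat.cast_two, zpow_two, h, one_zpow]
    simpa using this
  obtain ⟨P, hP⟩ := hz.exists_le_sylow
  obtain ⟨y, hy⟩ := MulAction.exists_smul_eq ↥(twistedE6 K q) P S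
  have h1 : MulAut.conj y ⟨g, hg⟩ ∈ (S : Subgroup ↥(twistedE6 K q)) := by
    rw [← hy, Sylow.coe_subgroup_smul]
    exact ⟨⟨g, hg⟩, hP (Subgroup.mem_zpowers _), rfl⟩
  refine ⟨(y : GL chevE6.Idx K) * g * (y : GL chevE6.Idx K)⁻¹, h1.2, ?_, y, y.2, rfl⟩
  have h2 := h1.1
  rwa [DataE6.facts.posUnipotent_eq] at h2

/-- Every involution is conjugate to one of the representatives. -/
theorem classes {g : GL chevE6.Idx K} (hg : g ∈ G) (h : g * g = 1) (h1 : g ≠ 1) :
    ∃ R ∈ E6Invol.cert.reps, Cj C g (P chevE6 K R) := by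
  obtain ⟨u, hu, hup, hgu⟩ := exists_conj_pos C hg h
  have hok := forms_ok
  split at hok
  · simp at hok
  rename_i st hst
  simp only [Bool.and_eq_true, List.all_eq_true] at hok
  obtain ⟨⟨-, hS⟩, hforms⟩ := hok
  have huS : u ∈ rootClosure chevE6 K (· ∈ st.S) := by
    refine rootClosure_mono (fun r hr h36 => ?_) hup
    rw [nh.2] at h36
    have := hS r (List.mem_range.2 (nh.1 ▸ hr))
    simpa [not_lt.2 h36] using this
  have hu2 : u * u = 1 := by
    obtain ⟨y, -, rfl⟩ := hgu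
    exact sq_conj C h
  obtain ⟨z, hz, -, l, hl, hgood, e⟩ := reduce C states_ok _ st
    (by rwa [List.getLast?_eq_getElem?] at hst) u hu huS hu2
  have hne : l.map Prod.fst ≠ [] := fun e0 => h1 (by
    obtain ⟨y, -, hy⟩ := hgu
    rw [List.map_eq_nil_iff] at e0
    subst e0
    have hu1 : u = 1 := by
      rw [show u = z⁻¹ * (z * u * z⁻¹) * z by group, e]
      simp [prodX]
    rw [show g = y⁻¹ * (y * g * y⁻¹) * y by group, hy, hu1]
    group)
  have hf := hforms _ hl
  rw [Bool.or_eq_true, List.isEmpty_iff] at hf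
  have hf' := hf.resolve_left hne
  rw [Bool.and_eq_true, List.any_eq_true] at hf'
  obtain ⟨hsc, c, -, hc⟩ := hf'
  rw [Bool.and_eq_true, List.isPerm_iff] at hc
  obtain ⟨R, hR, hch⟩ := chain C c.2 c.1 hc.2
  have hsc' := hsc
  simp only [scaleB, Bool.and_eq_true] at hsc'
  refine ⟨R, hR, ?_⟩
  have h2 := scale C hsc rfl hgood
  rw [P_perm C hsc'.2 hc.1] at h2
  exact (hgu.trans C (Cj.trans C ⟨z, hz, e⟩ h2)).trans C hch

/-- The representatives are involutions of the group, pairwise not conjugate. -/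
theorem reps : ∀ k < E6Invol.cert.reps.length,
    P chevE6 K (E6Invol.cert.reps.getD k []) ∈ G ∧
      orderOf (P chevE6 K (E6Invol.cert.reps.getD k [])) = 2 := by
  obtain ⟨hr, h71, hA, h65, hB, hp3⟩ := reps_ok
  intro k hk
  refine ⟨?_, (rep_spec (F := K) E6Invol.checked C.sig.hC hk).2.1⟩
  rw [hr] at hk ⊢
  have f71 := fix_mem C h71 (map_one C.f)
  have f65 := fix_mem C h65 (map_one C.f)
  have pA := pair_mem C hA 1
  have pB := pair_mem C hB 1
  rw [map_one] at pA pB
  simp only [List.length_cons, List.length_nil] at hk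
  rcases (show k = 0 ∨ k = 1 ∨ k = 2 by omega) with rfl | rfl | rfl
  · simpa [P] using f71
  · simpa [P] using pA
  · rw [show ([[71], [68, 66], [55, 65, 67]] : List (List ℕ)).getD 2 [] = [55, 65, 67] from rfl,
      P_perm C hp3 (List.Perm.swap 65 55 [67])]
    have := Subgroup.mul_mem _ f65 pB
    simpa [P, mul_assoc] using this

/-- The twisted group has three classes of involutions. -/
theorem ncard_classes :
    (ConjClasses.mk '' {g : ↥(twistedE6 K q) | orderOf g = 2}).ncard = 3 := by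
  have hlen : E6Invol.cert.reps.length = 3 := by rw [reps_ok.1]; rfl
  let φ : Fin E6Invol.cert.reps.length → ConjClasses ↥(twistedE6 K q) := fun k =>
    ConjClasses.mk ⟨_, (reps C k k.2).1⟩
  have hinj : Function.Injective φ := by
    intro j k h
    obtain ⟨x, hx⟩ := isConj_iff.1 (ConjClasses.mk_eq_mk_iff_isConj.1 h)
    exact Fin.ext (rep_inj (F := K) E6Invol.checked C.sig.hC j.2 k.2
      ⟨x, C.sys.le_group x.2, congrArg Subtype.val hx⟩)
  have e : ConjClasses.mk '' {g : ↥(twistedE6 K q) | orderOf g = 2} = Set.range φ := by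
    ext c
    constructor
    · rintro ⟨g, hg, rfl⟩
      have : Fact (Nat.Prime 2) := ⟨Nat.prime_two⟩
      rw [Set.mem_ofPred_eq, ← Subgroup.orderOf_coe, orderOf_eq_prime_iff, sq] at hg
      obtain ⟨R, hR, x, hx, hxe⟩ := classes C g.2 hg.1 hg.2
      obtain ⟨k, hk, rfl⟩ := List.mem_iff_getElem.1 hR
      refine ⟨⟨k, hk⟩, ?_⟩
      refine (ConjClasses.mk_eq_mk_iff_isConj.2 (isConj_iff.2 ⟨⟨x, hx⟩, Subtype.ext ?_⟩)).symm
      show x * (g : GL chevE6.Idx K) * x⁻¹ = _
      rw [hxe]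
      exact congrArg (P chevE6 K) (List.getD_eq_getElem _ _ hk).symm
    · rintro ⟨k, rfl⟩
      exact ⟨_, by rw [Set.mem_ofPred_eq, ← Subgroup.orderOf_coe]; exact (reps C k k.2).2, rfl⟩
  rw [e, ← Set.image_univ, Set.ncard_image_of_injective _ hinj, Set.ncard_univ, Nat.card_eq_fintype_card,
    Fintype.card_fin, hlen]

end CfsgLib.Chev.TwistInvol.E6
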