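import Cfsg.Agent.Lib.Known.TwistInvol.E6Reduce

/-!
# Scaling and fusing products of orthogonal orbits in type ²E₆

The torus scales each parameter to one; orbit words, the exchange of two fixed roots with a pair in a
square, and one identity in a fixed subsystem of type D₄ then lead to three representatives.
-/

set_option autoImplicit false
set_option maxRecDepth 20000
set_option synthInstance.maxSize 4000

namespace CfsgLib.Chev.TwistInvol.E6

open Cfsg.Lie CfsgLib.Chev.Table CfsgLib.Chev.EvenInvol CfsgLib.Chev.LacedInvol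

universe v

/-- The roots of a list of orbits. -/
def rootsOf (f : List ℕ) : List ℕ := f.flatMap orbL

/-- The check of a torus element scaling the orbit of `p` and fixing the orbits `os`. -/
def pullB (p : ℕ) (w : List (Fin TwE6.spec.length)) (os : List ℕ) : Bool :=
  let a := img w p
  let b := img w (rho p)
  orbB p &&
    (bif Nat.beq (rho p) p then [e6p2, e6p4].elem a
      else [(e6p3, e6p5), (e6p1, e6p6)].elem (a, b) && (DataE6.tab.pr a b == 0) &&
        (DataE6.tab.pr b a == 0) && (DataE6.tab.pr b b == 2)) &&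
    (DataE6.tab.pr a a == 2) && Nat.blt a 72 && Nat.blt b 72 &&
    (rootsOf os).all (fun s => Nat.blt s 72 && (DataE6.tab.pr a (img w s) == 0) &&
      (DataE6.tab.pr b (img w s) == 0))

/-- The check that every orbit of a form can be scaled alone. -/
def scaleB (ps : List (ℕ × List (Fin TwE6.spec.length))) (f : List ℕ) : Bool :=
  f.all (fun p => ps.any fun e => Nat.beq e.1 p && pullB p e.2 (f.filter fun s => !Nat.beq s p)) &&
    f.Nodup && pairT DataE6.tab (rootsOf f)

/-- A step of the fusion. -/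
inductive Step where
  /-- an orbit word -/
  | word (w : List (Fin TwE6.spec.length))
  /-- a square exchanging two fixed roots with a pair -/
  | swap (p b m top : ℕ) (w : List (Fin TwE6.spec.length)) (R : List ℕ) (back : Bool)
  /-- the identity of the fixed subsystem -/
  | fuse

/-- The fixed positive roots carried to the roots of the identity. -/
def fuseRoots : List (List (Fin TwE6.spec.length) × ℕ) → Bool := fun e =>
  e.all (fun x => fixB x.2) &&
    (e.map fun x => img x.1 x.2) == E6Invol.cert.base.2.2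

/-- The check of a step. -/
def stepB (fr : List (List (Fin TwE6.spec.length) × ℕ)) (S : List ℕ) (st : Step) (S' : List ℕ) :
    Bool :=
  pairT DataE6.tab S && pairT DataE6.tab S' &&
  match st with
  | .word w => (S.map (img w)).isPerm S'
  | .swap p b m top w R back =>
      !decide (rho p = p) && killB p (.rect b m top) [] &&
        Nat.beq (img w b) top && [img w m, img w (rho m)].isPerm [m, rho m] &&
        R.all (fun r => Nat.blt r 72 && (img w r == r) && commT2 DataE6.tab p r &&
          commT2 DataE6.tab (rho p) r) &&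
        pairT DataE6.tab ([b, top] ++ R) && pairT DataE6.tab ([m, rho m] ++ R) &&
        (bif back then S.isPerm ([m, rho m] ++ R) && S'.isPerm ([b, top] ++ R)
          else S.isPerm ([b, top] ++ R) && S'.isPerm ([m, rho m] ++ R))
  | .fuse => fuseRoots fr && S.isPerm (E6Invol.cert.base.1 :: E6Invol.cert.base.2.1) &&
      S'.isPerm E6Invol.cert.base.2.1 && pairT DataE6.tab (E6Invol.cert.base.1 :: E6Invol.cert.base.2.1)

/-- The check of a chain of steps ending at one of the representatives. -/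
def chainB (fr : List (List (Fin TwE6.spec.length) × ℕ)) : List ℕ → List (Step × List ℕ) → Bool
  | S, [] => E6Invol.cert.reps.elem S
  | S, (st, S') :: l => stepB fr S st S' && chainB fr S' l

variable {K : Type v} [Field K] [Fintype K] {q : ℕ} (C : TwE6.Ctx K q) [CharP K 2]
include C

/-- The twisted group. -/
local notation "G" => twistedE6 K q

/-- Conjugacy in the twisted group. -/
def Cj (g g' : GL chevE6.Idx K) : Prop := have := C; ∃ a ∈ G, a * g * a⁻¹ = g'

theorem Cj.trans {g g' g'' : GL chevE6.Idx K} (h : Cj C g g') (h' : Cj C g' g'') : Cj C g g'' := by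
  obtain ⟨a, ha, rfl⟩ := h
  obtain ⟨b, hb, rfl⟩ := h'
  exact ⟨b * a, Subgroup.mul_mem _ hb ha, by group⟩

theorem Cj.symm {g g' : GL chevE6.Idx K} (h : Cj C g g') : Cj C g' g := by
  obtain ⟨a, ha, rfl⟩ := h
  exact ⟨a⁻¹, Subgroup.inv_mem _ ha, by group⟩

omit [CharP K 2] in
theorem prE_eq {r s : ℕ} (hr : r < chevE6.nroots) (hs : s < chevE6.nroots) :
    prE chevE6 r s = DataE6.tab.pr r s := by
  have hset : Finset.range chevE6.rank = (List.range DataE6.tab.rank).toFinset := by
    rw [List.toFinset_range, rank_eq DataE6.chk_arrays]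
  rw [prE, Tab.pr, hset, List.sum_toFinset _ List.nodup_range]
  refine congrArg List.sum (List.map_congr_left fun i hi => ?_)
  have hi' : i < chevE6.rank := by rw [rank_eq DataE6.chk_arrays]; exact List.mem_range.1 hi
  rw [cor_eq DataE6.chk_arrays hr hi', cartan_eq DataE6.chk_arrays hi' hs]

theorem P_perm {S S' : List ℕ} (hS : pairT DataE6.tab S = true) (h : S.Perm S') :
    P chevE6 K S = P chevE6 K S' :=
  List.Perm.prod_eq' (h.map _) (pair_commute E6Invol.checked C.sig.hC hS)

theorem P_append (S S' : List ℕ) : P chevE6 K (S ++ S') = P chevE6 K S * P chevE6 K S' := by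
  have := C
  simp [P]

omit [CharP K 2] in
theorem sqrt_fixed {t : K} (ht : t ≠ 0) [CharP K 2] :
    ∃ l : Kˣ, (l : K) * l = t⁻¹ ∧ (C.f t = t → C.f (l : K) = l) := by
  obtain ⟨l, hl⟩ := exists_sqrt (F := K) t⁻¹
  have hl0 : l ≠ 0 := fun e => ht (inv_eq_zero.1 (by rw [← hl, e, mul_zero]))
  refine ⟨Units.mk0 l hl0, hl, fun e => ?_⟩
  haveI := Fact.mk Nat.prime_two
  refine (frobenius K 2).injective ?_
  simp only [frobenius_def, Units.val_mk0]
  rw [sq, sq, ← map_mul, hl, map_inv₀, e]

/-- The torus element scaling one orbit. -/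
theorem pull {p : ℕ} {w : List (Fin TwE6.spec.length)} {os : List ℕ} (h : pullB p w os = true)
    {t : K} (ht : t ≠ 0) (hok : OkP C p t) :
    ∃ g ∈ G, g * X C p t * g⁻¹ = X C p 1 ∧ Cent (rootsOf os) g := by
  simp only [pullB, Bool.and_eq_true, List.all_eq_true, Nat.blt_eq, beq_iff_eq] at h
  obtain ⟨⟨⟨⟨⟨hp, hkind⟩, haa⟩, ha⟩, hb⟩, hos⟩ := h
  have hF := DataE6.facts
  set a := img w p with hadef
  set b := img w (rho p) with hbdef
  have hlt := orb_lt hp
  obtain ⟨n, hn, hact⟩ := exists_word C w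
  obtain ⟨l, hl, hlf⟩ := sqrt_fixed C ht
  -- an element acting on the images, conjugated back
  suffices H : ∃ hh ∈ G, hh * (n * X C p t * n⁻¹) * hh⁻¹ = n * X C p 1 * n⁻¹ ∧
      ∀ s < chevE6.nroots, DataE6.tab.pr a s = 0 → DataE6.tab.pr b s = 0 →
        ∀ c : K, Commute hh (xU chevE6 s c) by
    obtain ⟨hh, hhG, e, hcom⟩ := H
    refine ⟨n⁻¹ * hh * n, Subgroup.mul_mem _ (Subgroup.mul_mem _ (Subgroup.inv_mem _ hn) hhG) hn,
      ?_, fun s hs c => ?_⟩
    · calc n⁻¹ * hh * n * X C p t * (n⁻¹ * hh * n)⁻¹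
          = n⁻¹ * (hh * (n * X C p t * n⁻¹) * hh⁻¹) * n := by group
        _ = X C p 1 := by rw [e]; group
    · obtain ⟨⟨h1, h2⟩, h3⟩ := hos s hs
      obtain ⟨h4, h5⟩ := hact s h1
      have h6 := hcom _ (lt_of h4) h2 h3 c
      rw [← h5 c] at h6
      show _ = _
      calc n⁻¹ * hh * n * xU chevE6 s c
          = n⁻¹ * (hh * (n * xU chevE6 s c * n⁻¹)) * n := by group
        _ = xU chevE6 s c * (n⁻¹ * hh * n) := by rw [h6.eq]; group
  have scale : ∀ {r : ℕ}, r < 72 → DataE6.tab.pr r r = 2 → ∀ (m : Kˣ) (c : K),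
      hU chevE6 r (m : K) * xU chevE6 r c * (hU chevE6 r (m : K))⁻¹ =
        xU chevE6 r ((m : K) * m * c) := fun hr h2 m c => by
    rw [hF.hU_conj_xU (lt_of hr) (lt_of hr), prE_eq C (lt_of hr) (lt_of hr), h2, zpow_two,
      Units.val_mul]
  have fixes : ∀ {r s : ℕ}, r < 72 → s < chevE6.nroots → DataE6.tab.pr r s = 0 → ∀ (m : Kˣ) (c : K),
      Commute (hU chevE6 r (m : K)) (xU chevE6 s c) := fun hr hs h0 m c => by
    have := hF.hU_conj_xU (lt_of hr) hs m c
    rw [prE_eq C (lt_of hr) hs, h0, zpow_zero, Units.val_one, one_mul] at this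
    exact mul_inv_eq_iff_eq_mul.1 this
  by_cases e : rho p = p
  · rw [show Nat.beq (rho p) p = true by rw [e]; simp, cond_true] at hkind
    simp only [List.elem_eq_mem, decide_eq_true_eq] at hkind
    have hlp := hlt p (by simp [orbL, e])
    have hX : ∀ c : K, n * X C p c * n⁻¹ = xU chevE6 a c := fun c => by
      rw [X, if_pos e]; exact (hact p hlp.2).2 c
    refine ⟨hU chevE6 a (l : K), C.hU_single_mem hkind (by rw [← C.hf]; exact hlf (hok e)), ?_,
      fun s hs h1 _ c => fixes ha hs h1 l c⟩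
    rw [hX, hX, scale ha haa, hl, inv_mul_cancel₀ ht]
  · rw [show Nat.beq (rho p) p = false from
      Bool.eq_false_iff.2 fun e' => e (Nat.eq_of_beq_eq_true e'), cond_false] at hkind
    simp only [Bool.and_eq_true, List.elem_eq_mem, decide_eq_true_eq, beq_iff_eq] at hkind
    obtain ⟨⟨⟨hmem, hab⟩, hba⟩, hbb⟩ := hkind
    have hX : ∀ c : K, n * X C p c * n⁻¹ = xU chevE6 a c * xU chevE6 b (C.f c) := fun c => by
      have h1 := (hlt p (by simp [orbL, e])).2
      have h2 := (hlt (rho p) (by simp [orbL, e])).2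
      rw [X, if_neg e, show n * (xU chevE6 p c * xU chevE6 (rho p) (C.f c)) * n⁻¹ =
        n * xU chevE6 p c * n⁻¹ * (n * xU chevE6 (rho p) (C.f c) * n⁻¹) by group,
        (hact p h1).2, (hact _ h2).2]
    let l' : Kˣ := Units.mk0 (C.f (l : K)) (f_ne C l.ne_zero)
    have hmemG : hU chevE6 a (l : K) * hU chevE6 b (l' : K) ∈ G := C.hU_pair hmem l
    refine ⟨_, hmemG, ?_, fun s hs h1 h2 c => (fixes ha hs h1 l c).mul_left (fixes hb hs h2 l' c)⟩
    have ea : ∀ c, hU chevE6 a (l : K) * hU chevE6 b (l' : K) * xU chevE6 a c *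
        (hU chevE6 a (l : K) * hU chevE6 b (l' : K))⁻¹ = xU chevE6 a ((l : K) * l * c) := fun c => by
      rw [show hU chevE6 a (l : K) * hU chevE6 b (l' : K) * xU chevE6 a c *
        (hU chevE6 a (l : K) * hU chevE6 b (l' : K))⁻¹ = hU chevE6 a (l : K) *
          (hU chevE6 b (l' : K) * xU chevE6 a c * (hU chevE6 b (l' : K))⁻¹) *
          (hU chevE6 a (l : K))⁻¹ by group, (fixes hb (lt_of ha) hba l' c).eq,
        mul_inv_cancel_right, scale ha haa]
    have eb : ∀ c, hU chevE6 a (l : K) * hU chevE6 b (l' : K) * xU chevE6 b c *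
        (hU chevE6 a (l : K) * hU chevE6 b (l' : K))⁻¹ = xU chevE6 b ((l' : K) * l' * c) := fun c => by
      rw [show hU chevE6 a (l : K) * hU chevE6 b (l' : K) * xU chevE6 b c *
        (hU chevE6 a (l : K) * hU chevE6 b (l' : K))⁻¹ = hU chevE6 a (l : K) *
          (hU chevE6 b (l' : K) * xU chevE6 b c * (hU chevE6 b (l' : K))⁻¹) *
          (hU chevE6 a (l : K))⁻¹ by group, scale hb hbb, (fixes ha (lt_of hb) hab l _).eq,
        mul_inv_cancel_right]
    have hl' : (l' : K) * l' = (C.f t)⁻¹ := by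
      show C.f (l : K) * C.f (l : K) = _
      rw [← map_mul, hl, map_inv₀]
    have key : ∀ (z u v : GL chevE6.Idx K), z * (u * v) * z⁻¹ = z * u * z⁻¹ * (z * v * z⁻¹) :=
      fun z u v => by group
    rw [hX, hX, key, ea, eb, hl, hl', inv_mul_cancel₀ ht, inv_mul_cancel₀ (f_ne C ht), map_one]

/-- Scaling all parameters of a form to one. -/
theorem scale {ps : List (ℕ × List (Fin TwE6.spec.length))} {f : List ℕ} (h : scaleB ps f = true)
    {l : List (ℕ × K)} (hl : l.map Prod.fst = f) (hgood : Good C l) :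
    Cj C (prodX C l) (P chevE6 K (rootsOf f)) := by
  simp only [scaleB, Bool.and_eq_true, decide_eq_true_eq, List.all_eq_true] at h
  obtain ⟨⟨hpull, hnd⟩, -⟩ := h
  have hX1 : ∀ p ∈ f, orbB p = true ∧ X C p (1 : K) = P chevE6 K (orbL p) := fun p hp => by
    obtain ⟨e, -, he⟩ := List.any_eq_true.1 (hpull p hp)
    simp only [Bool.and_eq_true, pullB] at he
    refine ⟨he.2.1.1.1.1.1, ?_⟩
    by_cases e' : rho p = p <;> simp [X, P, orbL, e']
  have cX : ∀ {F : List ℕ} {g : GL chevE6.Idx K}, Cent F g → ∀ p, (∀ r ∈ orbL p, r ∈ F) →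
      ∀ t, Commute g (X C p t) := fun {F g} hg p hp t => by
    by_cases e : rho p = p
    · rw [X, if_pos e]; exact hg _ (hp p (by simp [orbL, e])) _
    · rw [X, if_neg e]
      exact (hg _ (hp p (by simp [orbL, e])) _).mul_right (hg _ (hp (rho p) (by simp [orbL, e])) _)
  suffices H : ∀ m : List (ℕ × K), (m.map Prod.fst).Sublist f → Good C m →
      ∃ g ∈ G, g * prodX C m * g⁻¹ = P chevE6 K (rootsOf (m.map Prod.fst)) ∧
        ∀ p ∈ f, p ∉ m.map Prod.fst → ∀ t, Commute g (X C p t) by
    obtain ⟨g, hg, e, -⟩ := H l (hl ▸ List.Sublist.refl _) hgood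
    exact ⟨g, hg, hl ▸ e⟩
  intro m
  induction m with
  | nil => exact fun _ _ => ⟨1, Subgroup.one_mem _, by simp [prodX, P, rootsOf],
      fun _ _ _ _ => Commute.one_left _⟩
  | cons x m ih =>
    obtain ⟨p, t⟩ := x
    intro hsub hgd
    obtain ⟨g, hg, e, hfix⟩ := ih ((List.sublist_cons_self _ _).trans hsub) fun z hz =>
      hgd z (List.mem_cons_of_mem _ hz)
    have hnd' := hnd.sublist hsub
    simp only [List.map_cons, List.nodup_cons] at hnd'
    have hpf : p ∈ f := hsub.subset (by simp)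
    obtain ⟨hp, hp1⟩ := hX1 p hpf
    obtain ⟨en, -, hen⟩ := List.any_eq_true.1 (hpull p hpf)
    simp only [Bool.and_eq_true] at hen
    obtain ⟨ht, hok⟩ := hgd (p, t) (by simp)
    obtain ⟨z, hz, hzp, hzc⟩ := pull C hen.2 ht hok
    have hzX : ∀ s ∈ f, s ≠ p → ∀ c, Commute z (X C s c) := fun s hs hne c =>
      cX hzc s (fun r hr => List.mem_flatMap.2 ⟨s, List.mem_filter.2 ⟨hs, by
        simp [Bool.eq_false_iff.2 fun e => hne (Nat.eq_of_beq_eq_true e)]⟩, hr⟩) c
    have hzP : Commute z (P chevE6 K (rootsOf (m.map Prod.fst))) := by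
      refine Commute.list_prod_right _ _ fun y hy => ?_
      obtain ⟨r, hr, rfl⟩ := List.mem_map.1 hy
      obtain ⟨s, hs, hrs⟩ := List.mem_flatMap.1 hr
      exact hzc r (List.mem_flatMap.2 ⟨s, List.mem_filter.2 ⟨hsub.subset (List.mem_cons_of_mem _ hs),
        by simp [(Bool.eq_false_iff.2 fun e => hnd'.1 (by rwa [Nat.eq_of_beq_eq_true e] at hs) : Nat.beq s p = false)]⟩, hrs⟩) 1
    refine ⟨z * g, Subgroup.mul_mem _ hz hg, ?_, fun s hs hsm c => ?_⟩
    · have e0 : prodX C ((p, t) :: m) = X C p t * prodX C m := by simp [prodX]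
      rw [e0, show z * g * (X C p t * prodX C m) * (z * g)⁻¹ =
        z * (g * X C p t * g⁻¹) * z⁻¹ * (z * (g * prodX C m * g⁻¹) * z⁻¹) by group, e,
        (hfix p hpf hnd'.1 t).eq, mul_inv_cancel_right, hzp, hzP.eq, mul_inv_cancel_right, hp1,
        ← P_append C]
      rfl
    · simp only [List.map_cons, List.mem_cons, not_or] at hsm
      exact (hzX s hs hsm.1 c).mul_left (hfix s hs hsm.2 c)

/-- A fixed root element with parameter one anywhere. -/
theorem mem_img {r : ℕ} {w : List (Fin TwE6.spec.length)} (h : fixB r = true) :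
    xU chevE6 (img w r) (1 : K) ∈ G := by
  obtain ⟨n, hn, hact⟩ := exists_word C w
  have h' := h
  simp only [fixB, Bool.and_eq_true, Nat.blt_eq] at h'
  rw [← (hact r h'.1.2).2]
  exact Subgroup.mul_mem _ (Subgroup.mul_mem _ hn (fix_mem C h (map_one _))) (Subgroup.inv_mem _ hn)

/-- The exchange in a square. -/
theorem swap {p b m top : ℕ} {w : List (Fin TwE6.spec.length)} {R : List ℕ} (hp : rho p ≠ p)
    (hk : killB p (.rect b m top) [] = true) (hwb : img w b = top)
    (hwm : [img w m, img w (rho m)].Perm [m, rho m])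
    (hR : ∀ r ∈ R, r < 72 ∧ img w r = r ∧ commT2 DataE6.tab p r = true ∧
      commT2 DataE6.tab (rho p) r = true)
    (hM : pairT DataE6.tab ([m, rho m] ++ R) = true) :
    Cj C (P chevE6 K ([b, top] ++ R)) (P chevE6 K ([m, rho m] ++ R)) := by
  have hk' := hk
  simp only [killB, Bool.and_eq_true, Kind.okB] at hk'
  obtain ⟨⟨⟨⟨hpo, hly⟩, ⟨⟨-, hb⟩, htop⟩, hm⟩, -⟩, -⟩ := hk'
  have hl := layer hly
  have hnd := (List.nodup_append.1 (Facts.coord_nodup hl.coord)).1
  simp only [Kind.roots, List.nodup_cons, List.mem_cons, List.not_mem_nil, or_false, not_or,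
    List.mem_singleton] at hnd
  obtain ⟨⟨n1, n2, n3⟩, ⟨n4, n5⟩, n6, -⟩ := hnd
  have hlt : ∀ r ∈ [b, m, rho m, top], r < 72 := fun r hr =>
    nh.1 ▸ hl.mem_lt (List.mem_append_left [] hr)
  have hb72 := hlt b (by simp)
  have hm72 := hlt m (by simp)
  have hrm72 := hlt (rho m) (by simp)
  -- the coordinates and the elements with these coordinates
  have ext : ∀ g g' : GL chevE6.Idx K, ∀ e : ℕ → K, IsCd chevE6 (Kind.rect b m top).roots [] g e →
      IsCd chevE6 (Kind.rect b m top).roots [] g' e → g = g' := by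
    intro g g' e h1 h2
    have h3 := Subgroup.mul_mem _ (Subgroup.inv_mem _ h1) h2
    rw [show ((PF chevE6 (Kind.rect b m top).roots e)⁻¹ * g)⁻¹ *
      ((PF chevE6 (Kind.rect b m top).roots e)⁻¹ * g') = g⁻¹ * g' by group] at h3
    have : g⁻¹ * g' = 1 := by
      rw [← Subgroup.mem_bot]
      refine (Subgroup.closure_le _).2 ?_ h3
      rintro x ⟨s, t, -, hs, rfl⟩
      simp at hs
    exact inv_mul_eq_one.1 this
  have hphi : ∀ (t : K) (e : ℕ → K), phi C p (.rect b m top) t e b = e b ∧
      phi C p (.rect b m top) t e m = e m + t * e b ∧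
      phi C p (.rect b m top) t e (rho m) = e (rho m) + C.f t * e b ∧
      phi C p (.rect b m top) t e top =
        e top + C.f t * e m + t * (e (rho m) + C.f t * e b) := fun t e => by
    simp [phi, hp, Kind.d1, Kind.d2, actF, Ne.symm n1, Ne.symm n2, Ne.symm n3, Ne.symm n4,
      Ne.symm n5, Ne.symm n6, n1, n2, n3, n4, n5, n6]
  have gen : ∀ r ∈ (Kind.rect b m top).roots,
      IsCd chevE6 (Kind.rect b m top).roots [] (xU chevE6 r (1 : K)) (single r 1) :=
    fun r hr => hl.gen C.sig.hC hr 1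
  -- first conjugation
  have e1 : X C p 1 * P chevE6 K [b, top] * X C p 1 = P chevE6 K [b, m, rho m] := by
    rw [show P chevE6 K [b, top] = xU chevE6 b 1 * xU chevE6 top 1 by simp [P]]
    refine ext _ _ _ (phi_cd C hk 1 (hl.mul C.sig.hC (gen b (by simp [Kind.roots]))
      (gen top (by simp [Kind.roots])))) ?_
    · simp only [P, List.map_cons, List.map_nil, List.prod_cons, List.prod_nil, mul_one]
      refine hl.congr C.sig.hC (hl.mul C.sig.hC (gen b (by simp [Kind.roots]))
        (hl.mul C.sig.hC (gen m (by simp [Kind.roots])) (gen (rho m) (by simp [Kind.roots])))) ?_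
      intro r hr
      obtain ⟨f1, f2, f3, f4⟩ := hphi (1 : K) (single b 1 + single top 1)
      simp only [Kind.roots, List.mem_cons, List.not_mem_nil, or_false] at hr
      rcases hr with rfl | rfl | rfl | rfl
      · rw [f1]; simp [single, n1, n2, n3]
      · rw [f2]; simp [single, Ne.symm n1, n4, n5, n1, n3]
      · rw [f3]; simp [single, Ne.symm n2, Ne.symm n4, n6, n2, n3]
      · rw [f4]; simp [single, Ne.symm n3, Ne.symm n5, Ne.symm n6, n1, n2, Ne.symm n1, n5, n6,
          Ne.symm n2, n3, CharTwo.add_self_eq_zero]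
  -- second conjugation
  obtain ⟨lam, hlam⟩ := exists_trace C
  have e2 : X C p lam * P chevE6 K [top, m, rho m] * X C p lam = P chevE6 K [m, rho m] := by
    rw [show P chevE6 K [top, m, rho m] =
      xU chevE6 top 1 * (xU chevE6 m 1 * xU chevE6 (rho m) 1) by simp [P]]
    refine ext _ _ _ (phi_cd C hk lam (hl.mul C.sig.hC (gen top (by simp [Kind.roots]))
      (hl.mul C.sig.hC (gen m (by simp [Kind.roots])) (gen (rho m) (by simp [Kind.roots]))))) ?_
    · simp only [P, List.map_cons, List.map_nil, List.prod_cons, List.prod_nil, mul_one]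
      refine hl.congr C.sig.hC (hl.mul C.sig.hC (gen m (by simp [Kind.roots]))
        (gen (rho m) (by simp [Kind.roots]))) ?_
      intro r hr
      obtain ⟨f1, f2, f3, f4⟩ := hphi lam (single top 1 + (single m 1 + single (rho m) 1))
      simp only [Kind.roots, List.mem_cons, List.not_mem_nil, or_false] at hr
      rcases hr with rfl | rfl | rfl | rfl
      · rw [f1]; simp [single, n1, n2, n3]
      · rw [f2]; simp [single, Ne.symm n1, n4, n5, n1, n2, n3]
      · rw [f3]; simp [single, Ne.symm n2, Ne.symm n4, n6, n2, n1, n3]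
      · rw [f4]
        simp [single, Ne.symm n3, Ne.symm n5, Ne.symm n6, n1, n2, n3, n4, Ne.symm n4, n5, n6]
        linear_combination (norm := ring_nf) (-1 : K) * hlam
        simp [CharTwo.two_eq_zero]
  obtain ⟨n, hn, hact⟩ := exists_word C w
  have hnR : Commute n (P chevE6 K R) := Commute.list_prod_right _ _ fun y hy => by
    obtain ⟨r, hr, rfl⟩ := List.mem_map.1 hy
    obtain ⟨h1, h2, -⟩ := hR r hr
    have := (hact r h1).2 (1 : K)
    rw [h2] at this
    exact mul_inv_eq_iff_eq_mul.1 this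
  have hXR : ∀ t : K, Commute (X C p t) (P chevE6 K R) := fun t =>
    Commute.list_prod_right _ _ fun y hy => by
      obtain ⟨r, hr, rfl⟩ := List.mem_map.1 hy
      obtain ⟨h1, -, h3, h4⟩ := hR r hr
      have h5 := orb_lt hpo
      rw [X, if_neg hp]
      exact (commute_roots C (h5 p (by simp [orbL, hp])).2 h1 h3 t 1).mul_left
        (commute_roots C (h5 (rho p) (by simp [orbL, hp])).2 h1 h4 (C.f t) 1)
  have e3 : n * P chevE6 K [b, m, rho m] * n⁻¹ = P chevE6 K [top, m, rho m] := by
    have hperm : P chevE6 K [img w m, img w (rho m)] = P chevE6 K [m, rho m] :=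
      (P_perm C (pairT_sublist E6Invol.checked C.sig.hC (List.sublist_append_left _ R) hM)
        hwm.symm).symm
    rw [show P chevE6 K [b, m, rho m] = xU chevE6 b 1 * (xU chevE6 m 1 * xU chevE6 (rho m) 1) by
      simp [P], show ∀ x y z : GL chevE6.Idx K, n * (x * (y * z)) * n⁻¹ =
        n * x * n⁻¹ * ((n * y * n⁻¹) * (n * z * n⁻¹)) from fun x y z => by group,
      (hact b hb72).2, (hact m hm72).2, (hact _ hrm72).2, hwb,
      show xU chevE6 (img w m) (1 : K) * xU chevE6 (img w (rho m)) 1 =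
        P chevE6 K [img w m, img w (rho m)] by simp [P], hperm]
    simp [P]
  have hX : ∀ t : K, X C p t ∈ G := fun t => X_mem C hpo fun e => absurd e hp
  refine ⟨X C p lam * n * X C p 1, Subgroup.mul_mem _ (Subgroup.mul_mem _ (hX _) hn) (hX _), ?_⟩
  rw [P_append C, P_append C,
    show X C p lam * n * X C p 1 * (P chevE6 K [b, top] * P chevE6 K R) *
        (X C p lam * n * X C p 1)⁻¹ =
      X C p lam * (n * (X C p 1 * P chevE6 K [b, top] * (X C p 1)⁻¹) * n⁻¹) * (X C p lam)⁻¹ *
        (X C p lam * (n * (X C p 1 * P chevE6 K R * (X C p 1)⁻¹) * n⁻¹) * (X C p lam)⁻¹) by group,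
    (hXR 1).eq, mul_inv_cancel_right, hnR.eq, mul_inv_cancel_right, (hXR lam).eq,
    mul_inv_cancel_right, X_inv C hpo, X_inv C hpo, e1, e3, e2]

/-- One step. -/
theorem step {fr : List (List (Fin TwE6.spec.length) × ℕ)} {S S' : List ℕ} {st : Step}
    (h : stepB fr S st S' = true) : Cj C (P chevE6 K S) (P chevE6 K S') := by
  simp only [stepB, Bool.and_eq_true] at h
  obtain ⟨⟨hS, hS'⟩, h⟩ := h
  cases st with
  | word w =>
    simp only [List.isPerm_iff] at h
    obtain ⟨n, hn, hact⟩ := exists_word C w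
    refine ⟨n, hn, ?_⟩
    have e : n * P chevE6 K S * n⁻¹ = P chevE6 K (S.map (img w)) := by
      rw [← MulAut.conj_apply, P, map_list_prod, P, List.map_map, List.map_map]
      refine congrArg List.prod (List.map_congr_left fun r hr => ?_)
      exact (hact r (nh.1 ▸ (pair_spec E6Invol.checked hS).1 r hr)).2 1
    rw [e, ← P_perm C hS' h.symm]
  | swap p b m top w R back =>
    simp only [Bool.and_eq_true, Bool.not_eq_true', decide_eq_false_iff_not, Nat.beq_eq,
      List.isPerm_iff, List.all_eq_true, Nat.blt_eq, beq_iff_eq] at h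
    obtain ⟨⟨⟨⟨⟨⟨⟨hp, hk⟩, hwb⟩, hwm⟩, hR⟩, h1⟩, h2⟩, hperm⟩ := h
    have hc := swap C hp hk hwb hwm (fun r hr => ⟨(hR r hr).1.1.1, (hR r hr).1.1.2, (hR r hr).1.2,
      (hR r hr).2⟩) h2
    cases back
    · simp only [cond_false, Bool.and_eq_true, List.isPerm_iff] at hperm
      rwa [P_perm C hS hperm.1, P_perm C hS' hperm.2]
    · simp only [cond_true, Bool.and_eq_true, List.isPerm_iff] at hperm
      rw [P_perm C hS hperm.1, P_perm C hS' hperm.2]
      exact hc.symm C
  | fuse =>
    simp only [Bool.and_eq_true, List.isPerm_iff, fuseRoots, List.all_eq_true, beq_iff_eq] at h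
    obtain ⟨⟨⟨⟨hfix, hroots⟩, h1⟩, h2⟩, hB⟩ := h
    rw [P_perm C hS h1, P_perm C hS' h2]
    have hword := wordEq_spec (F := K) DataE6.chk_arrays DataE6.chk_chain DataE6.chk_pairs
      DataE6.facts E6Invol.checked.fus
    set L := E6Invol.cert.base.2.2
    set q0 := E6Invol.cert.base.1
    set rest := E6Invol.cert.base.2.1
    have hword' : P chevE6 K L * P chevE6 K (q0 :: rest) = P chevE6 K rest * P chevE6 K L := by
      rw [← P_append C, ← P_append C]; exact hword
    refine ⟨P chevE6 K L, Subgroup.list_prod_mem _ fun x hx => ?_, by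
      rw [hword', mul_inv_cancel_right]⟩
    obtain ⟨r, hr, rfl⟩ := List.mem_map.1 hx
    rw [← hroots] at hr
    obtain ⟨e, he, rfl⟩ := List.mem_map.1 hr
    exact mem_img C (hfix e he)

/-- A chain of steps leads to a representative. -/
theorem chain {fr : List (List (Fin TwE6.spec.length) × ℕ)} : ∀ (l : List (Step × List ℕ))
    (S : List ℕ), chainB fr S l = true →
      ∃ R ∈ E6Invol.cert.reps, Cj C (P chevE6 K S) (P chevE6 K R) := by
  intro l
  induction l with
  | nil => exact fun S h => ⟨S, by simpa [chainB] using h, 1, Subgroup.one_mem _, by group⟩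
  | cons e l ih =>
    obtain ⟨st, S'⟩ := e
    intro S h
    simp only [chainB, Bool.and_eq_true] at h
    obtain ⟨R, hR, hc⟩ := ih S' h.2
    exact ⟨R, hR, (step C h.1).trans C hc⟩

end CfsgLib.Chev.TwistInvol.E6
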