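import Cfsg.Agent.Lib.Known.TwistInvol.E6Reduce

/-!
# The states of the reduction for type ²E₆

Computed data, checked by the kernel against the tables.
-/

set_option autoImplicit false
set_option maxRecDepth 20000
set_option Elab.async false

namespace CfsgLib.Chev.TwistInvol.E6

/-- State 0. -/
def st0 : St := ⟨[36, 56, 39, 71], [],
  [],
  [],
  [[]]⟩

/-- State 1. -/
def st1 : St := ⟨[36, 56, 39], [71],
  [⟨71, [], [
      ], 0⟩],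
  [(71, [], [0, 1, 2, 1, 0, 3, 2, 1, 2, 3, 0, 1, 2, 1, 0])],
  [[], [71]]⟩

/-- State 2. -/
def st2 : St := ⟨[36, 56, 46, 69], [],
  [],
  [],
  [[]]⟩

/-- State 3. -/
def st3 : St := ⟨[36, 56, 46], [69],
  [⟨69, [], [
      ], 2⟩],
  [(69, [], [2, 1, 0, 3, 2, 1, 2, 3, 0, 1, 2])],
  [[], [69]]⟩

/-- State 4. -/
def st4 : St := ⟨[36, 56, 69, 46], [],
  [],
  [],
  [[]]⟩

/-- State 5. -/
def st5 : St := ⟨[36, 56, 69], [46],
  [⟨46, [], [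
      ], 4⟩],
  [(46, [], [0])],
  [[], [46]]⟩

/-- State 6. -/
def st6 : St := ⟨[36, 56], [39, 46, 47, 69, 70, 71],
  [⟨39, [46, 47, 69, 70, 71], [
      (.str 46 47, [69, 70, 71]),
      (.str 69 70, [71])], 1⟩,
  ⟨46, [39, 47, 69, 70, 71], [
      (.str 39 47, [69, 70, 71]),
      (.str 70 71, [69])], 3⟩,
  ⟨69, [39, 46, 47, 70, 71], [
      (.str 39 70, [46, 47, 71]),
      (.str 47 71, [46])], 5⟩],
  [(39, [46, 47, 69, 70, 71], [1]),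
  (46, [47, 69, 70, 71], [0]),
  (39, [69, 70, 71], [1]),
  (69, [70, 71], [2, 1, 0, 3, 2, 1, 2, 3, 0, 1, 2]),
  (39, [47], [1]),
  (46, [], [0])],
  [[], [39], [39, 71], [46], [46, 69], [69], [69, 46]]⟩

/-- State 7. -/
def st7 : St := ⟨[37, 42, 46, 53], [],
  [],
  [],
  [[]]⟩

/-- State 8. -/
def st8 : St := ⟨[37, 42, 46], [53],
  [⟨53, [], [
      ], 7⟩],
  [(53, [], [1, 0, 2, 1, 2, 0, 1])],
  [[], [53]]⟩

/-- State 9. -/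
def st9 : St := ⟨[37, 42, 53, 46], [],
  [],
  [],
  [[]]⟩

/-- State 10. -/
def st10 : St := ⟨[37, 42, 53], [46],
  [⟨46, [], [
      ], 9⟩],
  [(46, [], [0])],
  [[], [46]]⟩

/-- State 11. -/
def st11 : St := ⟨[37, 42, 60, 71], [],
  [],
  [],
  [[]]⟩

/-- State 12. -/
def st12 : St := ⟨[37, 42, 60], [71],
  [⟨71, [], [
      ], 11⟩],
  [(71, [], [0, 1, 2, 1, 0, 3, 2, 1, 2, 3, 0, 1, 2, 1, 0])],
  [[], [71]]⟩

/-- State 13. -/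
def st13 : St := ⟨[37, 42], [46, 53, 60, 63, 70, 71],
  [⟨46, [53, 60, 63, 70, 71], [
      (.str 60 63, [53, 70, 71]),
      (.str 70 71, [53])], 8⟩,
  ⟨53, [46, 60, 63, 70, 71], [
      (.str 60 70, [46, 63, 71]),
      (.str 63 71, [46])], 10⟩,
  ⟨60, [46, 53, 63, 70, 71], [
      (.str 46 63, [53, 70, 71]),
      (.str 53 70, [71])], 12⟩],
  [(46, [53, 60, 63, 70, 71], [0]),
  (53, [60, 63, 70, 71], [1, 0, 2, 1, 2, 0, 1]),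
  (60, [63, 70, 71], [3, 2, 1, 2, 3]),
  (46, [53, 71], [0]),
  (53, [70], [1, 0, 2, 1, 2, 0, 1]),
  (60, [], [3, 2, 1, 2, 3])],
  [[], [46], [46, 53], [53], [53, 46], [60], [60, 71]]⟩

/-- State 14. -/
def st14 : St := ⟨[39, 36, 56, 71], [],
  [],
  [],
  [[]]⟩

/-- State 15. -/
def st15 : St := ⟨[39, 36, 56], [71],
  [⟨71, [], [
      ], 14⟩],
  [(71, [], [0, 1, 2, 1, 0, 3, 2, 1, 2, 3, 0, 1, 2, 1, 0])],
  [[], [71]]⟩

/-- State 16. -/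
def st16 : St := ⟨[39, 44, 48, 50], [],
  [],
  [],
  [[]]⟩

/-- State 17. -/
def st17 : St := ⟨[39, 44, 60, 71], [],
  [],
  [],
  [[]]⟩

/-- State 18. -/
def st18 : St := ⟨[39, 44, 60], [71],
  [⟨71, [], [
      ], 17⟩],
  [(71, [], [0, 1, 2, 1, 0, 3, 2, 1, 2, 3, 0, 1, 2, 1, 0])],
  [[], [71]]⟩

/-- State 19. -/
def st19 : St := ⟨[39, 44], [48, 50, 60, 66, 68, 71],
  [⟨48, [60, 66, 68, 71], [
      (.rect 60 66 71, [])], 16⟩,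
  ⟨60, [48, 50, 66, 68, 71], [
      (.dbl 48 66, [71])], 18⟩],
  [(48, [60, 66, 68, 71], [0, 1, 2, 1, 0]),
  (60, [66, 68, 71], [3, 2, 1, 2, 3]),
  (48, [71], [0, 1, 2, 1, 0]),
  (60, [], [3, 2, 1, 2, 3])],
  [[], [48], [60], [60, 71]]⟩

/-- State 20. -/
def st20 : St := ⟨[39, 48, 50, 44], [],
  [],
  [],
  [[]]⟩

/-- State 21. -/
def st21 : St := ⟨[39, 48, 50], [44],
  [⟨44, [], [
      ], 20⟩],
  [(44, [], [2, 1, 2])],
  [[], [44]]⟩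

/-- State 22. -/
def st22 : St := ⟨[39], [36, 44, 45, 48, 49, 50, 55, 56, 59, 60, 61, 66, 67, 68, 71],
  [⟨36, [44, 45, 48, 49, 50, 55, 59, 60, 61, 66, 67, 68, 71], [
      (.rect 44 45 60, [48, 49, 50, 55, 61, 66, 67, 68, 71]),
      (.dbl 48 49, [55, 66, 67, 68, 71]),
      (.dbl 67 68, [71])], 15⟩,
  ⟨44, [36, 45, 48, 49, 50, 55, 56, 59, 60, 61, 66, 67, 68, 71], [
      (.dbl 36 45, [48, 49, 50, 55, 60, 61, 66, 67, 68, 71]),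
      (.dbl 49 55, [48, 50, 60, 66, 68, 71])], 19⟩,
  ⟨48, [36, 44, 45, 49, 55, 56, 59, 60, 61, 66, 67, 68, 71], [
      (.dbl 36 49, [44, 45, 55, 59, 60, 66, 67, 68, 71]),
      (.dbl 45 55, [44, 60, 66, 68, 71]),
      (.rect 60 66 71, [44])], 21⟩],
  [(36, [44, 45, 48, 49, 50, 55, 59, 60, 61, 66, 67, 68, 71], [3]),
  (44, [45, 48, 49, 50, 55, 59, 60, 61, 66, 67, 68, 71], [2, 1, 2]),
  (36, [48, 49, 50, 55, 60, 61, 66, 67, 68, 71], [3]),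
  (44, [48, 49, 50, 55, 61, 66, 67, 68, 71], [2, 1, 2]),
  (48, [49, 55, 61, 66, 67, 68, 71], [0, 1, 2, 1, 0]),
  (36, [45, 59, 60, 66, 68], [3]),
  (44, [45, 55, 59, 67], [2, 1, 2]),
  (36, [49, 61], [3]),
  (48, [], [0, 1, 2, 1, 0])],
  [[], [36], [36, 71], [44], [44, 48], [44, 60], [44, 60, 71], [48], [48, 44]]⟩

/-- State 23. -/
def st23 : St := ⟨[46, 36, 56, 69], [],
  [],
  [],
  [[]]⟩

/-- State 24. -/
def st24 : St := ⟨[46, 36, 56], [69],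
  [⟨69, [], [
      ], 23⟩],
  [(69, [], [2, 1, 0, 3, 2, 1, 2, 3, 0, 1, 2])],
  [[], [69]]⟩

/-- State 25. -/
def st25 : St := ⟨[46, 37, 42, 53], [],
  [],
  [],
  [[]]⟩

/-- State 26. -/
def st26 : St := ⟨[46, 37, 42], [53],
  [⟨53, [], [
      ], 25⟩],
  [(53, [], [1, 0, 2, 1, 2, 0, 1])],
  [[], [53]]⟩

/-- State 27. -/
def st27 : St := ⟨[46, 53, 37, 42], [],
  [],
  [],
  [[]]⟩

/-- State 28. -/
def st28 : St := ⟨[46, 53, 65, 69], [],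
  [],
  [],
  [[]]⟩

/-- State 29. -/
def st29 : St := ⟨[46, 53, 65], [69],
  [⟨69, [], [
      ], 28⟩],
  [(69, [], [2, 1, 0, 3, 2, 1, 2, 3, 0, 1, 2])],
  [[], [69]]⟩

/-- State 30. -/
def st30 : St := ⟨[46, 53], [37, 42, 65, 66, 68, 69],
  [⟨37, [65, 66, 68, 69], [
      (.rect 65 66 69, [])], 27⟩,
  ⟨65, [37, 42, 66, 68, 69], [
      (.dbl 37 66, [69])], 29⟩],
  [(37, [65, 66, 68, 69], [2]),
  (65, [66, 68, 69], [1, 0, 3, 2, 1, 2, 3, 0, 1]),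
  (37, [69], [2]),
  (65, [], [1, 0, 3, 2, 1, 2, 3, 0, 1])],
  [[], [37], [65], [65, 69]]⟩

/-- State 31. -/
def st31 : St := ⟨[46], [36, 37, 38, 42, 53, 54, 55, 56, 57, 64, 65, 66, 67, 68, 69],
  [⟨36, [37, 38, 42, 53, 54, 55, 57, 64, 65, 66, 67, 68, 69], [
      (.dbl 37 38, [53, 54, 55, 64, 65, 66, 67, 68, 69]),
      (.rect 53 54 65, [55, 66, 67, 68, 69]),
      (.dbl 67 68, [69])], 24⟩,
  ⟨37, [36, 38, 53, 54, 55, 56, 57, 64, 65, 66, 67, 68, 69], [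
      (.dbl 36 38, [53, 54, 55, 64, 65, 66, 67, 68, 69]),
      (.dbl 54 55, [53, 65, 66, 68, 69]),
      (.rect 65 66 69, [53])], 26⟩,
  ⟨53, [36, 37, 38, 42, 54, 55, 56, 57, 64, 65, 66, 67, 68, 69], [
      (.dbl 36 54, [37, 38, 42, 55, 57, 65, 66, 67, 68, 69]),
      (.dbl 38 55, [37, 42, 65, 66, 68, 69])], 30⟩],
  [(36, [37, 38, 42, 53, 54, 55, 57, 64, 65, 66, 67, 68, 69], [3]),
  (37, [38, 53, 54, 55, 57, 64, 65, 66, 67, 68, 69], [2]),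
  (36, [53, 54, 55, 64, 65, 66, 67, 68, 69], [3]),
  (53, [54, 55, 64, 65, 66, 67, 68, 69], [1, 0, 2, 1, 2, 0, 1]),
  (36, [38, 57, 65, 66, 68, 69], [3]),
  (37, [53, 55, 67, 69], [2]),
  (53, [54, 64, 65], [1, 0, 2, 1, 2, 0, 1]),
  (36, [65], [3]),
  (53, [], [1, 0, 2, 1, 2, 0, 1])],
  [[], [36], [36, 69], [37], [37, 53], [53], [53, 37], [53, 65], [53, 65, 69]]⟩

/-- State 32. -/
def st32 : St := ⟨[], [36, 37, 38, 39, 40, 41, 42, 43, 44, 45, 46, 47, 48, 49, 50, 51, 52, 53, 54, 55, 56, 57, 58, 59, 60, 61, 62, 63, 64, 65, 66, 67, 68, 69, 70, 71],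
  [⟨36, [37, 38, 39, 40, 41, 42, 43, 44, 45, 46, 47, 48, 49, 50, 51, 52, 53, 54, 55, 57, 58, 59, 60, 61, 62, 63, 64, 65, 66, 67, 68, 69, 70, 71], [
      (.dbl 37 38, [39, 40, 41, 43, 44, 45, 46, 47, 48, 49, 50, 51, 52, 53, 54, 55, 58, 59, 60, 61, 62, 63, 64, 65, 66, 67, 68, 69, 70, 71]),
      (.dbl 40 41, [39, 44, 45, 46, 47, 48, 49, 50, 51, 52, 53, 54, 55, 59, 60, 61, 62, 63, 64, 65, 66, 67, 68, 69, 70, 71]),
      (.rect 44 45 60, [39, 46, 47, 48, 49, 50, 51, 52, 53, 54, 55, 61, 62, 63, 64, 65, 66, 67, 68, 69, 70, 71]),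
      (.dbl 48 49, [39, 46, 47, 51, 52, 53, 54, 55, 62, 63, 64, 65, 66, 67, 68, 69, 70, 71]),
      (.rect 51 52 63, [39, 46, 47, 53, 54, 55, 64, 65, 66, 67, 68, 69, 70, 71]),
      (.rect 53 54 65, [39, 46, 47, 55, 66, 67, 68, 69, 70, 71]),
      (.dbl 67 68, [39, 46, 47, 69, 70, 71])], 6⟩,
  ⟨37, [36, 38, 39, 40, 41, 43, 44, 45, 46, 47, 48, 49, 50, 51, 52, 53, 54, 55, 56, 57, 58, 59, 60, 61, 62, 63, 64, 65, 66, 67, 68, 69, 70, 71], [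
      (.dbl 36 38, [39, 40, 41, 43, 44, 45, 46, 47, 48, 49, 50, 51, 52, 53, 54, 55, 58, 59, 60, 61, 62, 63, 64, 65, 66, 67, 68, 69, 70, 71]),
      (.rect 39 40 44, [41, 45, 46, 47, 48, 49, 50, 51, 52, 53, 54, 55, 58, 59, 60, 61, 62, 63, 64, 65, 66, 67, 68, 69, 70, 71]),
      (.rect 47 48 51, [41, 45, 46, 49, 52, 53, 54, 55, 58, 59, 60, 61, 62, 63, 64, 65, 66, 67, 68, 69, 70, 71]),
      (.dbl 54 55, [41, 45, 46, 49, 52, 53, 58, 59, 60, 61, 62, 63, 65, 66, 68, 69, 70, 71]),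
      (.dbl 58 59, [46, 49, 52, 53, 60, 61, 62, 63, 65, 66, 68, 69, 70, 71]),
      (.dbl 61 62, [46, 53, 60, 63, 65, 66, 68, 69, 70, 71]),
      (.rect 65 66 69, [46, 53, 60, 63, 70, 71])], 13⟩,
  ⟨39, [36, 37, 38, 40, 41, 42, 43, 44, 45, 46, 47, 48, 49, 50, 51, 52, 53, 54, 55, 56, 57, 58, 59, 60, 61, 62, 63, 64, 65, 66, 67, 68, 69, 70, 71], [
      (.dbl 37 40, [36, 38, 41, 44, 45, 46, 47, 48, 49, 50, 51, 52, 53, 54, 55, 56, 57, 58, 59, 60, 61, 62, 63, 64, 65, 66, 67, 68, 69, 70, 71]),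
      (.dbl 38 41, [36, 44, 45, 46, 47, 48, 49, 50, 51, 52, 53, 54, 55, 56, 59, 60, 61, 62, 63, 64, 65, 66, 67, 68, 69, 70, 71]),
      (.str 46 47, [36, 44, 45, 48, 49, 50, 51, 52, 53, 54, 55, 56, 59, 60, 61, 62, 63, 64, 65, 66, 67, 68, 69, 70, 71]),
      (.str 51 53, [36, 44, 45, 48, 49, 50, 52, 54, 55, 56, 59, 60, 61, 62, 63, 64, 65, 66, 67, 68, 69, 70, 71]),
      (.dbl 52 54, [36, 44, 45, 48, 49, 50, 55, 56, 59, 60, 61, 63, 65, 66, 67, 68, 69, 70, 71]),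
      (.str 63 65, [36, 44, 45, 48, 49, 50, 55, 56, 59, 60, 61, 66, 67, 68, 69, 70, 71]),
      (.str 69 70, [36, 44, 45, 48, 49, 50, 55, 56, 59, 60, 61, 66, 67, 68, 71])], 22⟩,
  ⟨46, [36, 37, 38, 39, 40, 41, 42, 43, 44, 45, 47, 48, 49, 50, 51, 52, 53, 54, 55, 56, 57, 58, 59, 60, 61, 62, 63, 64, 65, 66, 67, 68, 69, 70, 71], [
      (.str 39 47, [36, 37, 38, 40, 41, 42, 43, 44, 45, 48, 49, 50, 51, 52, 53, 54, 55, 56, 57, 58, 59, 60, 61, 62, 63, 64, 65, 66, 67, 68, 69, 70, 71]),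
      (.dbl 40 48, [36, 37, 38, 41, 42, 44, 45, 49, 51, 52, 53, 54, 55, 56, 57, 58, 59, 60, 61, 62, 63, 64, 65, 66, 67, 68, 69, 70, 71]),
      (.dbl 41 49, [36, 37, 38, 42, 44, 45, 51, 52, 53, 54, 55, 56, 57, 59, 60, 62, 63, 64, 65, 66, 67, 68, 69, 70, 71]),
      (.str 44 51, [36, 37, 38, 42, 45, 52, 53, 54, 55, 56, 57, 59, 60, 62, 63, 64, 65, 66, 67, 68, 69, 70, 71]),
      (.dbl 45 52, [36, 37, 38, 42, 53, 54, 55, 56, 57, 60, 63, 64, 65, 66, 67, 68, 69, 70, 71]),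
      (.str 60 63, [36, 37, 38, 42, 53, 54, 55, 56, 57, 64, 65, 66, 67, 68, 69, 70, 71]),
      (.str 70 71, [36, 37, 38, 42, 53, 54, 55, 56, 57, 64, 65, 66, 67, 68, 69])], 31⟩],
  [(36, [37, 38, 39, 40, 41, 42, 43, 44, 45, 46, 47, 48, 49, 50, 51, 52, 53, 54, 55, 57, 58, 59, 60, 61, 62, 63, 64, 65, 66, 67, 68, 69, 70, 71], [3]),
  (37, [38, 39, 40, 41, 43, 44, 45, 46, 47, 48, 49, 50, 51, 52, 53, 54, 55, 57, 58, 59, 60, 61, 62, 63, 64, 65, 66, 67, 68, 69, 70, 71], [2]),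
  (36, [39, 40, 41, 43, 44, 45, 46, 47, 48, 49, 50, 51, 52, 53, 54, 55, 58, 59, 60, 61, 62, 63, 64, 65, 66, 67, 68, 69, 70, 71], [3]),
  (39, [40, 41, 43, 44, 45, 46, 47, 48, 49, 50, 51, 52, 53, 54, 55, 58, 59, 60, 61, 62, 63, 64, 65, 66, 67, 68, 69, 70, 71], [1]),
  (37, [38, 44, 45, 46, 47, 48, 49, 50, 51, 52, 53, 54, 55, 57, 59, 60, 61, 62, 63, 64, 65, 66, 67, 68, 69, 70, 71], [2]),
  (36, [39, 41, 46, 47, 48, 49, 50, 51, 52, 53, 54, 55, 58, 60, 61, 62, 63, 64, 65, 66, 67, 68, 69, 70, 71], [3]),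
  (39, [40, 43, 44, 46, 47, 48, 49, 50, 51, 52, 53, 54, 55, 61, 62, 63, 64, 65, 66, 67, 68, 69, 70, 71], [1]),
  (37, [44, 46, 47, 48, 49, 50, 51, 52, 53, 54, 55, 61, 62, 63, 64, 65, 66, 67, 68, 69, 70, 71], [2]),
  (39, [46, 47, 48, 49, 50, 51, 52, 53, 54, 55, 61, 62, 63, 64, 65, 66, 67, 68, 69, 70, 71], [1]),
  (46, [47, 48, 49, 50, 51, 52, 53, 54, 55, 61, 62, 63, 64, 65, 66, 67, 68, 69, 70, 71], [0]),
  (39, [40, 41, 43, 44, 45, 53, 54, 55, 58, 59, 60, 64, 65, 66, 67, 68, 69, 70, 71], [1]),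
  (37, [38, 44, 45, 51, 52, 55, 57, 59, 60, 62, 63, 66, 67, 68, 69, 70, 71], [2]),
  (36, [39, 41, 47, 49, 54, 58, 60, 61, 63, 64, 65, 66, 68, 70, 71], [3]),
  (39, [40, 43, 44, 47, 48, 50, 51, 53, 54, 55, 64, 67, 70, 71], [1]),
  (37, [44, 46, 48, 50, 51, 52, 53, 55, 62, 67, 69, 71], [2]),
  (39, [46, 47, 48, 49, 50, 53, 54, 61, 64, 65, 71], [1]),
  (46, [47, 48, 49, 50, 51, 52, 61, 62, 63, 71], [0]),
  (39, [40, 41, 43, 44, 45, 58, 59, 60, 70], [1]),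
  (37, [38, 44, 45, 57, 59, 60, 69], [2]),
  (36, [39, 41, 58, 60, 65], [3]),
  (39, [40, 43, 44, 53], [1]),
  (37, [44, 51], [2]),
  (39, [47], [1]),
  (46, [], [0])],
  [[], [36], [36, 39], [36, 39, 71], [36, 46], [36, 46, 69], [36, 69], [36, 69, 46], [37], [37, 46], [37, 46, 53], [37, 53], [37, 53, 46], [37, 60], [37, 60, 71], [39], [39, 36], [39, 36, 71], [39, 44], [39, 44, 48], [39, 44, 60], [39, 44, 60, 71], [39, 48], [39, 48, 44], [46], [46, 36], [46, 36, 69], [46, 37], [46, 37, 53], [46, 53], [46, 53, 37], [46, 53, 65], [46, 53, 65, 69]]⟩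

/-- All states, the last one being the whole positive system. -/
def states : List St :=
  [st0, st1, st2, st3, st4, st5, st6, st7, st8, st9, st10, st11, st12, st13, st14, st15, st16, st17, st18, st19, st20, st21, st22, st23, st24, st25, st26, st27, st28, st29, st30, st31, st32]

theorem states_ok : stsB states = true := by decide +kernel

end CfsgLib.Chev.TwistInvol.E6
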