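import Cfsg.Agent.Lib.Known.TwistInvol.E6Fusion
import Cfsg.Agent.Lib.Known.TwistInvol.E6States

/-!
# The fusion data for type ²E₆

Computed data, checked by the kernel against the tables.
-/

set_option autoImplicit false
set_option maxRecDepth 20000
set_option Elab.async false

namespace CfsgLib.Chev.TwistInvol.E6

/-- The words carrying each orbit of a form to a fundamental one. -/
def pulls : List (ℕ × List (Fin TwE6.spec.length)) :=
  [(36, [1, 2, 3, 1, 2]), (37, [1, 2, 1]), (39, []), (44, [2]), (46, []), (48, [1, 2, 0]), (53, [2, 0, 1]), (60, [2, 3]), (65, [2, 3, 0, 1]), (69, [2, 3, 0, 1, 2]), (71, [2, 3, 0, 1, 2, 1, 0])]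

/-- The fixed roots of the identity, from positive ones. -/
def fuseWords : List (List (Fin TwE6.spec.length) × ℕ) :=
  [([0, 3, 2, 1], 39), ([0, 2, 1], 39), ([0], 46), ([], 47)]

/-- The chains of steps from the sorted root lists of the forms. -/
def chains : List (List ℕ × List (Step × List ℕ)) := [
  ([36, 39, 56], [
    (.word [0], [36, 47, 56]),
    (.word [2], [38, 51, 57]),
    (.word [1], [41, 53, 58]),
    (.word [0], [49, 53, 61]),
    (.word [2], [52, 53, 62]),
    (.word [1], [51, 54, 64]),
    (.word [3], [54, 63, 64]),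
    (.word [2], [55, 63, 67]),
    (.word [1], [55, 65, 67])]),
  ([36, 39, 56, 71], [
    (.word [2], [38, 44, 57, 71]),
    (.word [1], [41, 44, 58, 71]),
    (.swap 38 39 41 60 [2, 3, 2] [44, 71] true, [39, 44, 60, 71]),
    (.fuse, [44, 60, 71]),
    (.word [0], [51, 63, 70]),
    (.word [1], [53, 65, 69]),
    (.swap 38 53 55 69 [2, 3, 2] [65] false, [55, 65, 67])]),
  ([36, 46, 56], [
    (.word [1], [36, 47, 56]),
    (.word [2], [38, 51, 57]),
    (.word [1], [41, 53, 58]),
    (.word [0], [49, 53, 61]),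
    (.word [2], [52, 53, 62]),
    (.word [1], [51, 54, 64]),
    (.word [3], [54, 63, 64]),
    (.word [2], [55, 63, 67]),
    (.word [1], [55, 65, 67])]),
  ([36, 46, 56, 69], [
    (.word [1], [36, 47, 56, 70]),
    (.word [0], [36, 39, 56, 71]),
    (.word [2], [38, 44, 57, 71]),
    (.word [1], [41, 44, 58, 71]),
    (.swap 38 39 41 60 [2, 3, 2] [44, 71] true, [39, 44, 60, 71]),
    (.fuse, [44, 60, 71]),
    (.word [0], [51, 63, 70]),
    (.word [1], [53, 65, 69]),
    (.swap 38 53 55 69 [2, 3, 2] [65] false, [55, 65, 67])]),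
  ([36, 56], [
    (.word [2], [38, 57]),
    (.word [1], [41, 58]),
    (.word [0], [49, 61]),
    (.word [2], [52, 62]),
    (.word [1], [54, 64]),
    (.word [2], [55, 67]),
    (.word [3], [68, 66])]),
  ([36, 56, 69], [
    (.word [1], [36, 56, 70]),
    (.word [0], [36, 56, 71]),
    (.word [2], [38, 57, 71]),
    (.word [1], [41, 58, 71]),
    (.word [0], [49, 61, 70]),
    (.word [2], [52, 62, 70]),
    (.word [1], [54, 64, 69]),
    (.word [2], [55, 65, 67])]),
  ([37, 42], [
    (.word [1], [40, 43]),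
    (.word [0], [48, 50]),
    (.word [3], [49, 61]),
    (.word [2], [52, 62]),
    (.word [1], [54, 64]),
    (.word [2], [55, 67]),
    (.word [3], [68, 66])]),
  ([37, 42, 46], [
    (.word [1], [40, 43, 47]),
    (.word [0], [39, 48, 50]),
    (.word [2], [44, 48, 50]),
    (.word [3], [49, 60, 61]),
    (.word [2], [52, 60, 62]),
    (.word [1], [54, 60, 64]),
    (.word [0], [54, 63, 64]),
    (.word [2], [55, 63, 67]),
    (.word [1], [55, 65, 67])]),
  ([37, 42, 46, 53], [
    (.word [1], [40, 43, 47, 51]),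
    (.word [0], [39, 44, 48, 50]),
    (.word [3], [39, 49, 60, 61]),
    (.word [2], [44, 52, 60, 62]),
    (.word [1], [44, 54, 60, 64]),
    (.swap 52 39 54 71 [0, 2, 1, 2, 3, 2, 1, 2, 0] [44, 60] true, [39, 44, 60, 71]),
    (.fuse, [44, 60, 71]),
    (.word [0], [51, 63, 70]),
    (.word [1], [53, 65, 69]),
    (.swap 38 53 55 69 [2, 3, 2] [65] false, [55, 65, 67])]),
  ([37, 42, 53], [
    (.word [1], [40, 43, 51]),
    (.word [0], [44, 48, 50]),
    (.word [3], [49, 60, 61]),
    (.word [2], [52, 60, 62]),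
    (.word [1], [54, 60, 64]),
    (.word [0], [54, 63, 64]),
    (.word [2], [55, 63, 67]),
    (.word [1], [55, 65, 67])]),
  ([37, 42, 60], [
    (.word [0], [37, 42, 63]),
    (.word [1], [40, 43, 65]),
    (.word [0], [48, 50, 65]),
    (.word [2], [48, 50, 69]),
    (.word [1], [48, 50, 70]),
    (.word [3], [49, 61, 70]),
    (.word [2], [52, 62, 70]),
    (.word [1], [54, 64, 69]),
    (.word [2], [55, 65, 67])]),
  ([37, 42, 60, 71], [
    (.word [1], [40, 43, 60, 71]),
    (.swap 37 39 40 44 [2] [60, 71] true, [39, 44, 60, 71]),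
    (.fuse, [44, 60, 71]),
    (.word [0], [51, 63, 70]),
    (.word [1], [53, 65, 69]),
    (.swap 38 53 55 69 [2, 3, 2] [65] false, [55, 65, 67])]),
  ([39], [
    (.word [0], [47]),
    (.word [2], [51]),
    (.word [1], [53]),
    (.word [3], [65]),
    (.word [2], [69]),
    (.word [1], [70]),
    (.word [0], [71])]),
  ([39, 44], [
    (.word [0], [47, 51]),
    (.word [3], [47, 63]),
    (.word [2], [51, 63]),
    (.word [1], [53, 65]),
    (.word [2], [53, 69]),
    (.word [3], [65, 69]),
    (.swap 37 65 66 69 [2] [] false, [68, 66])]),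
  ([39, 44, 48, 50], [
    (.word [3], [39, 49, 60, 61]),
    (.word [2], [44, 52, 60, 62]),
    (.word [1], [44, 54, 60, 64]),
    (.swap 52 39 54 71 [0, 2, 1, 2, 3, 2, 1, 2, 0] [44, 60] true, [39, 44, 60, 71]),
    (.fuse, [44, 60, 71]),
    (.word [0], [51, 63, 70]),
    (.word [1], [53, 65, 69]),
    (.swap 38 53 55 69 [2, 3, 2] [65] false, [55, 65, 67])]),
  ([39, 44, 60], [
    (.word [0], [47, 51, 63]),
    (.word [1], [46, 53, 65]),
    (.word [2], [46, 53, 69]),
    (.word [1], [47, 51, 70]),
    (.word [3], [47, 63, 70]),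
    (.word [2], [51, 63, 70]),
    (.word [1], [53, 65, 69]),
    (.swap 38 53 55 69 [2, 3, 2] [65] false, [55, 65, 67])]),
  ([39, 44, 60, 71], [
    (.fuse, [44, 60, 71]),
    (.word [0], [51, 63, 70]),
    (.word [1], [53, 65, 69]),
    (.swap 38 53 55 69 [2, 3, 2] [65] false, [55, 65, 67])]),
  ([39, 48, 50], [
    (.word [2], [44, 48, 50]),
    (.word [3], [49, 60, 61]),
    (.word [2], [52, 60, 62]),
    (.word [1], [54, 60, 64]),
    (.word [0], [54, 63, 64]),
    (.word [2], [55, 63, 67]),
    (.word [1], [55, 65, 67])]),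
  ([46], [
    (.word [1], [47]),
    (.word [2], [51]),
    (.word [1], [53]),
    (.word [3], [65]),
    (.word [2], [69]),
    (.word [1], [70]),
    (.word [0], [71])]),
  ([46, 53], [
    (.word [3], [46, 65]),
    (.word [2], [46, 69]),
    (.word [1], [47, 70]),
    (.word [2], [51, 70]),
    (.word [3], [63, 70]),
    (.swap 40 63 66 70 [1, 2, 1] [] false, [68, 66])]),
  ([46, 53, 65], [
    (.word [2], [46, 53, 69]),
    (.word [1], [47, 51, 70]),
    (.word [3], [47, 63, 70]),
    (.word [2], [51, 63, 70]),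
    (.word [1], [53, 65, 69]),
    (.swap 38 53 55 69 [2, 3, 2] [65] false, [55, 65, 67])]),
  ([46, 53, 65, 69], [
    (.word [1], [47, 51, 63, 70]),
    (.word [0], [39, 44, 60, 71]),
    (.fuse, [44, 60, 71]),
    (.word [0], [51, 63, 70]),
    (.word [1], [53, 65, 69]),
    (.swap 38 53 55 69 [2, 3, 2] [65] false, [55, 65, 67])])]

/-- Every nonempty form can be scaled and reaches a representative. -/
theorem forms_ok : (match states.getLast? with
    | none => false
    | some st => st.F.isEmpty && (List.range 72).all (fun r => Nat.blt r 36 || st.S.elem r) &&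
        st.forms.all fun f => f.isEmpty || (scaleB pulls f && chains.any fun c =>
          (rootsOf f).isPerm c.1 && chainB fuseWords c.1 c.2)) = true := by
  decide +kernel

end CfsgLib.Chev.TwistInvol.E6
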