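import Cfsg.Agent.Lib.Known.TwistInvol.E6Tools

/-!
# Removing the coordinates of an involution of a group of type ²E₆ along an orbit

For an involution `X * w` with `X` on an orbit `p` and a nonzero parameter, each layer is a string
of fixed roots, two exchanged strings, or a fixed square; its coordinates are removed by a
conjugation.
-/

set_option autoImplicit false
set_option maxRecDepth 20000
set_option synthInstance.maxSize 4000

namespace CfsgLib.Chev.TwistInvol.E6

open Cfsg.Lie CfsgLib.Chev.Table CfsgLib.Chev.EvenInvol CfsgLib.Chev.LacedInvol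

universe v

/-- The shape of a layer: a fixed string, two exchanged strings, or a fixed square. -/
inductive Kind where
  /-- a string of fixed roots -/
  | str (k k' : ℕ)
  /-- two exchanged strings -/
  | dbl (k k' : ℕ)
  /-- a square with fixed ends -/
  | rect (b m top : ℕ)

/-- The roots of a layer. -/
def Kind.roots : Kind → List ℕ
  | .str k k' => [k, k']
  | .dbl k k' => [k, k', rho k, rho k']
  | .rect b m top => [b, m, rho m, top]

/-- The linear action of the first root of the orbit of `p` on a layer. -/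
def Kind.d1 (p : ℕ) : Kind → List (ℕ × ℕ × ℕ)
  | .str k k' => [(k, k', 1)]
  | .dbl k k' => if rho p = p then [(k, k', 1), (rho k, rho k', 1)] else [(k, k', 1)]
  | .rect b m top => [(b, m, 1), (rho m, top, 1)]

/-- The linear action of the second root of the orbit. -/
def Kind.d2 : Kind → List (ℕ × ℕ × ℕ)
  | .str _ _ => []
  | .dbl k k' => [(rho k, rho k', 1)]
  | .rect b m top => [(b, rho m, 1), (m, top, 1)]

/-- The conditions on the roots of a layer. -/
def Kind.okB (p : ℕ) : Kind → Bool
  | .str k k' => decide (rho p = p) && fixB k && fixB k'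
  | .dbl k k' => pairB k (rho k) && (rho (rho k') == k')
  | .rect b m top => !decide (rho p = p) && fixB b && fixB top && pairB m (rho m)

/-- The check of a layer. -/
def killB (p : ℕ) (kd : Kind) (M : List ℕ) : Bool :=
  orbB p && lyB kd.roots M && kd.okB p && actB DataE6.tab kd.roots M p (kd.d1 p) &&
    (decide (rho p = p) || actB DataE6.tab kd.roots M (rho p) kd.d2)

variable {K : Type v} [Field K] [Fintype K] {q : ℕ} (C : TwE6.Ctx K q) [CharP K 2]
include C

/-- The twisted group. -/
local notation "G" => twistedE6 K q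

/-- The action on the coordinates. -/
noncomputable def phi (p : ℕ) (kd : Kind) (t : K) (e : ℕ → K) : ℕ → K :=
  if rho p = p then actF (kd.d1 p) t e else actF (kd.d1 p) t (actF kd.d2 (C.f t) e)

theorem exists_trace : ∃ l : K, l + C.f l = 1 := by
  classical
  obtain ⟨c, hc⟩ : ∃ c : K, C.f c ≠ c := by
    by_contra h
    push Not at h
    have hsub : ∀ c : K, c ∈ (Polynomial.X ^ q - Polynomial.X : Polynomial K).roots.toFinset := by
      intro c
      rw [Multiset.mem_toFinset, Polynomial.mem_roots
        (FiniteField.X_pow_card_sub_X_ne_zero K C.q_gt)]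
      simp [← C.hf, h c]
    have h1 : Fintype.card K ≤ q := by
      have h2 := Finset.card_le_card (s := (Finset.univ : Finset K)) fun c _ => hsub c
      refine le_trans (le_trans h2 (Multiset.toFinset_card_le _)) (le_trans
        (Polynomial.card_roots' _) ?_)
      exact le_of_eq (FiniteField.X_pow_card_sub_X_natDegree_eq K C.q_gt)
    rw [C.card] at h1
    have := C.q_gt
    nlinarith
  have hs : c + C.f c ≠ 0 := fun e => hc (CharTwo.add_eq_zero.1 e).symm
  refine ⟨c / (c + C.f c), ?_⟩
  rw [map_div₀, map_add, C.pow_two, add_comm (C.f c) c, ← add_div, div_self hs]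

theorem cd_inv {L M : List ℕ} (h : lyB L M = true) {g : GL chevE6.Idx K} {f : ℕ → K}
    (hg : IsCd chevE6 L M g f) : IsCd chevE6 L M g⁻¹ f := by
  have hl := layer h
  obtain ⟨f', hf'⟩ := hl.exists_cd C.sig.hC (Subgroup.inv_mem _ (hl.isCd_mem hg))
  have h1 := hl.mul C.sig.hC hg hf'
  rw [mul_inv_cancel] at h1
  refine hl.congr C.sig.hC hf' fun r hr => ?_
  have := hl.unique C.sig.hC h1 (hl.of_mem C.sig.hC (Subgroup.one_mem _)) r hr
  simp only [Pi.add_apply, Pi.zero_apply, CharTwo.add_eq_zero] at this
  exact this.symm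

theorem phi_cd {p : ℕ} {kd : Kind} {M : List ℕ} (h : killB p kd M = true) (t : K)
    {g : GL chevE6.Idx K} {e : ℕ → K} (hg : IsCd chevE6 kd.roots M g e) :
    IsCd chevE6 kd.roots M (X C p t * g * X C p t) (phi C p kd t e) := by
  simp only [killB, Bool.and_eq_true, Bool.or_eq_true, decide_eq_true_eq] at h
  obtain ⟨⟨⟨⟨hp, hl⟩, -⟩, h1⟩, h2⟩ := h
  have hX := X_inv C hp t
  nth_rewrite 2 [← hX]
  by_cases e1 : rho p = p
  · rw [phi, if_pos e1, X, if_pos e1]
    exact (layer hl).act C.sig.hC h1 t hg
  · rw [phi, if_neg e1, X, if_neg e1, mul_inv_rev,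
      show ∀ a b : GL chevE6.Idx K, a * b * g * (b⁻¹ * a⁻¹) = a * (b * g * b⁻¹) * a⁻¹ from
        fun a b => by group]
    exact (layer hl).act C.sig.hC h1 t ((layer hl).act C.sig.hC (h2.resolve_left e1) _ hg)

/-- A fixed element with prescribed coordinates that removes those of a fixed vector. -/
theorem solve {p : ℕ} {kd : Kind} {M : List ℕ} (h : killB p kd M = true) {t : K} (ht : t ≠ 0)
    (hok : OkP C p t) {e : ℕ → K} (hrel : ∀ r ∈ kd.roots, e (rho r) = C.f (e r))
    (hfix : ∀ r ∈ kd.roots, phi C p kd t e r = e r) :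
    ∃ y ∈ G, ∃ fy, IsCd chevE6 kd.roots M y fy ∧
      ∀ r ∈ kd.roots, phi C p kd t fy r + e r + fy r = 0 := by
  simp only [killB, Bool.and_eq_true] at h
  obtain ⟨⟨⟨⟨-, hly⟩, hk⟩, -⟩, -⟩ := h
  have hl := layer hly
  have hnd := (List.nodup_append.1 (Facts.coord_nodup hl.coord)).1
  cases kd with
  | str k k' =>
    simp only [Kind.okB, Bool.and_eq_true, decide_eq_true_eq] at hk
    obtain ⟨⟨hp, hk1⟩, hk2⟩ := hk
    have ek : rho k = k := by
      simp only [fixB, Bool.and_eq_true, beq_iff_eq] at hk1; exact hk1.2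
    have ek' : rho k' = k' := by
      simp only [fixB, Bool.and_eq_true, beq_iff_eq] at hk2; exact hk2.2
    simp only [Kind.roots, List.nodup_cons, List.mem_singleton] at hnd
    have hne : k ≠ k' := hnd.1
    have hφ : ∀ e : ℕ → K, phi C p (.str k k') t e k = e k ∧
        phi C p (.str k k') t e k' = e k' + t * e k := fun e => by
      simp [phi, hp, Kind.d1, actF, Ne.symm hne]
    have he : e k = 0 := by
      have := hfix k' (by simp [Kind.roots])
      rw [(hφ e).2] at this
      simpa [ht] using this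
    have hfe : C.f (e k') = e k' := by
      have := hrel k' (by simp [Kind.roots]); rw [ek'] at this; exact this.symm
    refine ⟨xU chevE6 k (e k' / t), fix_mem C hk1 (by rw [map_div₀, hfe, hok hp]), _,
      hl.gen C.sig.hC (by simp [Kind.roots]) _, ?_⟩
    intro r hr
    simp only [Kind.roots, List.mem_cons, List.not_mem_nil, or_false] at hr
    rcases hr with rfl | rfl
    · rw [(hφ _).1, he, add_zero, CharTwo.add_self_eq_zero]
    · rw [(hφ _).2]
      simp [single, Ne.symm hne, mul_div_cancel₀ _ ht, CharTwo.add_self_eq_zero]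
  | dbl k k' =>
    simp only [Kind.okB, Bool.and_eq_true, beq_iff_eq] at hk
    obtain ⟨hk1, ek'⟩ := hk
    simp only [Kind.roots, List.nodup_cons, List.mem_cons, List.not_mem_nil, or_false, not_or,
      List.mem_singleton] at hnd
    obtain ⟨⟨n1, n2, n3⟩, ⟨n4, n5⟩, n6, -⟩ := hnd
    have hφ : ∀ e : ℕ → K, phi C p (.dbl k k') t e k = e k ∧
        phi C p (.dbl k k') t e (rho k) = e (rho k) ∧
        phi C p (.dbl k k') t e k' = e k' + t * e k ∧
        phi C p (.dbl k k') t e (rho k') = e (rho k') + C.f t * e (rho k) := fun e => by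
      by_cases hp : rho p = p
      · simp [phi, hp, hok hp, Kind.d1, actF, Ne.symm n1, Ne.symm n2, Ne.symm n3, Ne.symm n4,
          Ne.symm n5, Ne.symm n6, n1, n2, n3, n4, n5, n6]
      · simp [phi, hp, Kind.d1, Kind.d2, actF, Ne.symm n1, Ne.symm n2, Ne.symm n3, Ne.symm n4,
          Ne.symm n5, Ne.symm n6, n1, n2, n3, n4, n5, n6]
    have he : e k = 0 := by
      have := hfix k' (by simp [Kind.roots])
      rw [(hφ e).2.2.1] at this
      simpa [ht] using this
    have her : e (rho k) = 0 := by rw [hrel k (by simp [Kind.roots]), he, map_zero]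
    refine ⟨_, pair_mem C hk1 (e k' / t), _, hl.mul C.sig.hC (hl.gen C.sig.hC (by simp [Kind.roots]) _)
      (hl.gen C.sig.hC (by simp [Kind.roots]) _), ?_⟩
    intro r hr
    simp only [Kind.roots, List.mem_cons, List.not_mem_nil, or_false] at hr
    rcases hr with rfl | rfl | rfl | rfl
    · rw [(hφ _).1, he, add_zero, CharTwo.add_self_eq_zero]
    · rw [(hφ _).2.2.1]
      simp [single, Ne.symm n1, n1, n2, n4, Ne.symm n4, mul_div_cancel₀ _ ht,
        CharTwo.add_self_eq_zero]
    · rw [(hφ _).2.1, her, add_zero, CharTwo.add_self_eq_zero]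
    · rw [(hφ _).2.2.2, hrel k' (by simp [Kind.roots])]
      simp [single, n1, n2, n3, n4, n5, n6, Ne.symm n1, Ne.symm n2, Ne.symm n3, Ne.symm n4,
        Ne.symm n5, Ne.symm n6, map_div₀, mul_div_cancel₀ _ (f_ne C ht),
        CharTwo.add_self_eq_zero]
  | rect b m top =>
    simp only [Kind.okB, Bool.and_eq_true, Bool.not_eq_true', decide_eq_false_iff_not] at hk
    obtain ⟨⟨⟨hp, hb⟩, htop⟩, hm⟩ := hk
    have eb : rho b = b := by
      simp only [fixB, Bool.and_eq_true, beq_iff_eq] at hb; exact hb.2
    have etop : rho top = top := by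
      simp only [fixB, Bool.and_eq_true, beq_iff_eq] at htop; exact htop.2
    simp only [Kind.roots, List.nodup_cons, List.mem_cons, List.not_mem_nil, or_false, not_or,
      List.mem_singleton] at hnd
    obtain ⟨⟨n1, n2, n3⟩, ⟨n4, n5⟩, n6, -⟩ := hnd
    set s := C.f t with hs
    have hs0 : s ≠ 0 := f_ne C ht
    have hφ : ∀ e : ℕ → K, phi C p (.rect b m top) t e b = e b ∧
        phi C p (.rect b m top) t e m = e m + t * e b ∧
        phi C p (.rect b m top) t e (rho m) = e (rho m) + s * e b ∧
        phi C p (.rect b m top) t e top = e top + s * e m + t * (e (rho m) + s * e b) := fun e => by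
      simp [phi, hp, hs, Kind.d1, Kind.d2, actF, Ne.symm n1, Ne.symm n2, Ne.symm n3, Ne.symm n4,
        Ne.symm n5, Ne.symm n6, n1, n2, n3, n4, n5, n6]
    have he : e b = 0 := by
      have := hfix m (by simp [Kind.roots])
      rw [(hφ e).2.1] at this
      simpa [ht] using this
    have hmr : e (rho m) = C.f (e m) := hrel m (by simp [Kind.roots])
    have hmid : s * e m = t * e (rho m) := by
      have := hfix top (by simp [Kind.roots])
      rw [(hφ e).2.2.2, he, mul_zero, add_zero, add_assoc] at this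
      exact CharTwo.add_eq_zero.1 (add_eq_left.1 this)
    -- the parameters
    set μ := e m / t with hμ
    have hμe : t * μ = e m := mul_div_cancel₀ _ ht
    have hfμ : C.f μ = μ := by
      rw [hμ, map_div₀, ← hmr, ← hs, div_eq_div_iff hs0 ht, mul_comm _ t, mul_comm (e m)]
      exact hmid.symm
    have hfe : C.f (e top) = e top := by
      have := hrel top (by simp [Kind.roots]); rw [etop] at this; exact this.symm
    obtain ⟨l, hl1⟩ := exists_trace C
    set g' := e top + t * s * μ with hg
    have hfg : C.f g' = g' := by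
      rw [hg, map_add, map_mul, map_mul, hfμ, hfe, hs, C.pow_two]; ring
    set ν := g' * l / s with hν
    have hν2 : s * ν + t * C.f ν = g' := by
      rw [hν, map_div₀, map_mul, hfg, hs, C.pow_two, mul_div_cancel₀ _ hs0,
        mul_div_cancel₀ _ ht, ← mul_add, hl1, mul_one]
    refine ⟨xU chevE6 b μ * (xU chevE6 m ν * xU chevE6 (rho m) (C.f ν)),
      Subgroup.mul_mem _ (fix_mem C hb hfμ) (pair_mem C hm ν), _,
      hl.mul C.sig.hC (hl.gen C.sig.hC (by simp [Kind.roots]) _)
        (hl.mul C.sig.hC (hl.gen C.sig.hC (by simp [Kind.roots]) _)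
          (hl.gen C.sig.hC (by simp [Kind.roots]) _)), ?_⟩
    intro r hr
    simp only [Kind.roots, List.mem_cons, List.not_mem_nil, or_false] at hr
    rcases hr with rfl | rfl | rfl | rfl
    · rw [(hφ _).1, he, add_zero, CharTwo.add_self_eq_zero]
    · rw [(hφ _).2.1]
      simp only [Pi.add_apply, single, if_true, if_neg (Ne.symm n1), if_neg n1, if_neg n2,
        if_neg n4, zero_add, add_zero]
      linear_combination (norm := ring_nf) (CharTwo.two_eq_zero (R := K)) * (e r + ν) + hμe
    · rw [(hφ _).2.2.1]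
      simp only [Pi.add_apply, single, if_true, if_neg (Ne.symm n2), if_neg n2, if_neg (Ne.symm n4),
        if_neg n1, zero_add, add_zero]
      have h3 : s * μ = e (rho m) := by rw [hmr, ← hμe, map_mul, hfμ, hs]
      linear_combination (norm := ring_nf) (CharTwo.two_eq_zero (R := K)) * (e (rho m) + C.f ν) + h3
    · rw [(hφ _).2.2.2]
      simp only [Pi.add_apply, single, if_true, if_neg (Ne.symm n3), if_neg (Ne.symm n5),
        if_neg (Ne.symm n6), if_neg n1, if_neg n2, if_neg (Ne.symm n2), if_neg (Ne.symm n1),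
        if_neg n4, if_neg (Ne.symm n4), zero_add, add_zero]
      linear_combination (norm := ring_nf) (CharTwo.two_eq_zero (R := K)) * (e r + t * s * μ) + hν2 + hg

/-- The removal of the coordinates of one layer. -/
theorem kill_layer {p : ℕ} {kd : Kind} {M : List ℕ} (h : killB p kd M = true) {t : K} (ht : t ≠ 0)
    (hok : OkP C p t) {w : GL chevE6.Idx K} (hw : w ∈ G)
    (hm : w ∈ rootClosure chevE6 K (· ∈ kd.roots ++ M)) (h2 : X C p t * w * (X C p t * w) = 1) :
    ∃ y ∈ G, y ∈ rootClosure chevE6 K (· ∈ kd.roots ++ M) ∧ ∃ w' ∈ G,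
      w' ∈ rootClosure chevE6 K (· ∈ M) ∧ y * (X C p t * w) * y⁻¹ = X C p t * w' := by
  have h0 := h
  simp only [killB, Bool.and_eq_true] at h0
  obtain ⟨⟨⟨⟨hp, hly⟩, -⟩, -⟩, -⟩ := h0
  have hl := layer hly
  set x := X C p t with hx
  have hxx : x * x = 1 := X_sq C hp t
  obtain ⟨e, he⟩ := hl.exists_cd C.sig.hC hm
  have hfix : ∀ r ∈ kd.roots, phi C p kd t e r = e r := by
    have h1 := hl.mul C.sig.hC (phi_cd C h t he) he
    rw [← hx, show x * w * x * w = x * w * (x * w) by group, h2] at h1
    intro r hr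
    have := hl.unique C.sig.hC h1 (hl.of_mem C.sig.hC (Subgroup.one_mem _)) r hr
    simpa [CharTwo.add_eq_zero] using this
  obtain ⟨y, hy, fy, hfy, hsol⟩ := solve C h ht hok (rel C hly (C.sys.le_fix hw) he) hfix
  refine ⟨y, hy, hl.isCd_mem hfy, x * y * x * w * y⁻¹, ?_, ?_, ?_⟩
  · have hxm : x ∈ G := X_mem C hp hok
    exact Subgroup.mul_mem _ (Subgroup.mul_mem _ (Subgroup.mul_mem _ (Subgroup.mul_mem _ hxm hy)
      hxm) hw) (Subgroup.inv_mem _ hy)
  · exact hl.mem_of_zero C.sig.hC (hl.mul C.sig.hC (hl.mul C.sig.hC (phi_cd C h t hfy) he)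
      (cd_inv C hly hfy)) fun r hr => hsol r hr
  · simp only [← mul_assoc, hxx, one_mul]

end CfsgLib.Chev.TwistInvol.E6
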