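import Cfsg.Agent.Lib.Known.TwistInvol.E6Kill

/-!
# The reduction of the involutions of a group of type ²E₆ to orthogonal orbits

A state is a system of positive roots commuting with the orbits split off so far.  An involution of
it is tested along a word of orbit reflections; at the first nonzero coordinate on a fundamental
orbit the other coordinates are removed layer by layer and the state of the orthogonal roots is
entered.
-/

set_option autoImplicit false
set_option maxRecDepth 20000
set_option synthInstance.maxSize 4000

namespace CfsgLib.Chev.TwistInvol.E6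

open Cfsg.Lie CfsgLib.Chev.Table CfsgLib.Chev.EvenInvol CfsgLib.Chev.LacedInvol

universe v

/-- One fundamental orbit of a state: the other roots, the layers, the orthogonal roots and the
state of these. -/
structure Case where
  o : ℕ
  rest : List ℕ
  lays : List (Kind × List ℕ)
  child : ℕ

/-- A state. -/
structure St where
  F : List ℕ
  S : List ℕ
  cases : List Case
  tests : List (ℕ × List ℕ × List (Fin TwE6.spec.length))
  forms : List (List ℕ)

/-- The check of the layers from the roots `cur` down to `O`. -/
def laysB (p : ℕ) (F O : List ℕ) : List ℕ → List (Kind × List ℕ) → Bool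
  | cur, [] => cur.all (fun r => O.elem r)
  | cur, (kd, M) :: l =>
      cur.all (fun r => (kd.roots ++ M).elem r) && killB p kd M &&
        (kd.roots ++ M).all (fun r => F.all fun f => commT2 DataE6.tab r f) && laysB p F O M l

/-- The check of a case. -/
def caseB (sts : List St) (i : ℕ) (st : St) (c : Case) : Bool :=
  match sts[c.child]? with
  | none => false
  | some ch =>
      Nat.blt c.child i && orbB c.o && laysB c.o st.F ch.S c.rest c.lays &&
        (st.F ++ orbL c.o).all (fun r => ch.F.elem r) &&
        (orbL c.o).all (fun r => ch.S.all fun s => Nat.blt s 72 && commT2 DataE6.tab r s) &&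
        ch.forms.all fun f => st.forms.elem (c.o :: f)

/-- The check of the tests from the roots `cur`. -/
def testsB (st : St) : List ℕ → List (ℕ × List ℕ × List (Fin TwE6.spec.length)) → Bool
  | cur, [] => cur.isEmpty
  | cur, (o, rest, w) :: ts =>
      orbB o && cur.all (fun r => (orbL o ++ rest).elem r) && lyB (orbL o) rest &&
        st.cases.any (fun c => Nat.beq c.o o && rest.all fun r => c.rest.elem r) &&
        st.F.all (fun f => img w f == f) && testsB st (rest.map (img w)) ts

/-- The check of a state. -/
def stB (sts : List St) (i : ℕ) (st : St) : Bool :=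
  st.F.all (fun f => Nat.blt f 72) && st.forms.elem [] && testsB st st.S st.tests &&
    st.cases.all fun c => caseB sts i st c

/-- The check of all states. -/
def stsB (sts : List St) : Bool :=
  allBelow sts.length fun i => match sts[i]? with
    | none => false
    | some st => stB sts i st

variable {K : Type v} [Field K]

/-- Commuting with all root elements of a list. -/
def Cent (F : List ℕ) (g : GL chevE6.Idx K) : Prop :=
  ∀ r ∈ F, ∀ t : K, Commute g (xU chevE6 r t)

theorem Cent.mul {F : List ℕ} {g g' : GL chevE6.Idx K} (h : Cent F g) (h' : Cent F g') :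
    Cent F (g * g') := fun r hr t => (h r hr t).mul_left (h' r hr t)

variable [Fintype K] {q : ℕ} (C : TwE6.Ctx K q) [CharP K 2]
include C

/-- The twisted group. -/
local notation "G" => twistedE6 K q

/-- The product of fixed elements on orbits. -/
noncomputable def prodX (l : List (ℕ × K)) : GL chevE6.Idx K :=
  (l.map fun x => X C x.1 x.2).prod

/-- The parameters are admissible and nonzero. -/
def Good (l : List (ℕ × K)) : Prop := ∀ x ∈ l, x.2 ≠ 0 ∧ OkP C x.1 x.2

theorem cent_closure {F S : List ℕ} (hF : ∀ f ∈ F, f < 72)
    (h : S.all (fun r => F.all fun f => commT2 DataE6.tab r f) = true) {y : GL chevE6.Idx K}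
    (hy : y ∈ rootClosure chevE6 K (· ∈ S)) : Cent F y := by
  intro f hf t
  induction hy using Subgroup.closure_induction with
  | mem z hz =>
    obtain ⟨r, a, hr, hrS, rfl⟩ := hz
    exact commute_roots C (nh.1 ▸ hr) (hF f hf)
      (List.all_eq_true.1 (List.all_eq_true.1 h r hrS) f hf) a t
  | one => exact Commute.one_left _
  | mul _ _ _ _ h1 h2 => exact h1.mul_left h2
  | inv _ _ h1 => exact h1.inv_left

theorem sq_conj {g u : GL chevE6.Idx K} (h : u * u = 1) : g * u * g⁻¹ * (g * u * g⁻¹) = 1 := by
  have := C
  rw [show g * u * g⁻¹ * (g * u * g⁻¹) = g * (u * u) * g⁻¹ by group, h]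
  group

/-- The removal of all layers. -/
theorem kill_all {p : ℕ} {F O : List ℕ} (hF : ∀ f ∈ F, f < 72) {t : K} (ht : t ≠ 0)
    (hok : OkP C p t) : ∀ (l : List (Kind × List ℕ)) (cur : List ℕ), laysB p F O cur l = true →
      ∀ w ∈ G, w ∈ rootClosure chevE6 K (· ∈ cur) → X C p t * w * (X C p t * w) = 1 →
        ∃ y ∈ G, Cent F y ∧ ∃ w' ∈ G, w' ∈ rootClosure chevE6 K (· ∈ O) ∧
          y * (X C p t * w) * y⁻¹ = X C p t * w' := by
  intro l
  induction l with
  | nil =>
    intro cur h w hw hm _
    exact ⟨1, Subgroup.one_mem _, fun _ _ _ => Commute.one_left _, w, hw, closure_sub h hm,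
      by group⟩
  | cons e l ih =>
    obtain ⟨kd, M⟩ := e
    intro cur h w hw hm h2
    simp only [laysB, Bool.and_eq_true] at h
    obtain ⟨⟨⟨hsub, hk⟩, hc⟩, hrest⟩ := h
    obtain ⟨y, hy, hyc, w', hw', hm', e⟩ :=
      kill_layer C hk ht hok hw (closure_sub hsub hm) h2
    obtain ⟨z, hz, hzc, w'', hw'', hm'', e'⟩ := ih M hrest w' hw' hm' (by
      rw [← e]; exact sq_conj C h2)
    refine ⟨z * y, Subgroup.mul_mem _ hz hy, hzc.mul (cent_closure C hF hc hyc), w'', hw'', hm'',
      ?_⟩
    rw [← e', ← e]; group

/-- Every involution of a state is conjugate, by elements centralising the orbits split off, to a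
product of fixed elements along one of the forms of the state. -/
theorem reduce {sts : List St} (hsts : stsB sts = true) : ∀ (i : ℕ) (st : St), sts[i]? = some st →
    ∀ u ∈ G, u ∈ rootClosure chevE6 K (· ∈ st.S) → u * u = 1 →
      ∃ g ∈ G, Cent st.F g ∧ ∃ l, l.map Prod.fst ∈ st.forms ∧ Good C l ∧
        g * u * g⁻¹ = prodX C l := by
  intro i
  induction i using Nat.strong_induction_on with
  | _ i ih =>
    intro st hst
    have h := allBelow_spec hsts i (List.getElem?_eq_some_iff.1 hst).1
    simp only [hst, stB, Bool.and_eq_true, List.all_eq_true, Nat.blt_eq, List.elem_eq_mem,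
      decide_eq_true_eq] at h
    obtain ⟨⟨⟨hF, hnil⟩, htests⟩, hcases⟩ := h
    suffices H : ∀ ts cur, testsB st cur ts = true → ∀ u ∈ G,
        u ∈ rootClosure chevE6 K (· ∈ cur) → u * u = 1 →
          ∃ g ∈ G, Cent st.F g ∧ ∃ l, l.map Prod.fst ∈ st.forms ∧ Good C l ∧
            g * u * g⁻¹ = prodX C l from
      fun u hu hm h2 => H st.tests st.S htests u hu hm h2
    intro ts
    induction ts with
    | nil =>
      intro cur h u _ hm _
      rw [testsB, List.isEmpty_iff] at h
      subst h
      refine ⟨1, Subgroup.one_mem _, fun _ _ _ => Commute.one_left _, [], by simpa using hnil,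
        fun x hx => by simp at hx, ?_⟩
      have : u = 1 := by
        rw [← Subgroup.mem_bot]
        refine (Subgroup.closure_le _).2 ?_ hm
        rintro x ⟨s, t, -, hs, rfl⟩
        simp at hs
      simp [this, prodX]
    | cons e ts iht =>
      obtain ⟨o, rest, w⟩ := e
      intro cur h u hu hm h2
      simp only [testsB, Bool.and_eq_true] at h
      obtain ⟨⟨⟨⟨⟨ho, hsub⟩, hly⟩, hany⟩, hfix⟩, hnext⟩ := h
      obtain ⟨t, hok, v, hv, hvm, rfl⟩ := split_orb C ho hly hu (closure_sub hsub hm)
      by_cases ht : t = 0
      · subst ht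
        rw [X_zero C ho, one_mul] at hu h2 ⊢
        obtain ⟨n, hn, hact⟩ := exists_word C w
        have hnc : Cent st.F n := fun f hf a => by
          have e1 := (hact f (hF f hf)).2 a
          rw [List.all_eq_true] at hfix
          rw [show img w f = f by simpa using hfix f hf] at e1
          exact mul_inv_eq_iff_eq_mul.1 e1
        have hnm : n * v * n⁻¹ ∈ rootClosure chevE6 K (· ∈ rest.map (img w)) := by
          refine conj_closure (fun z hz => ?_) hvm
          obtain ⟨r, a, hr, hrR, rfl⟩ := hz
          obtain ⟨h1, h2⟩ := hact r (nh.1 ▸ hr)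
          rw [h2]
          exact xU_mem_rootClosure (lt_of h1) (List.mem_map.2 ⟨r, hrR, rfl⟩) _
        obtain ⟨g, hg, hgc, l, hl, hgood, e⟩ := iht _ hnext (n * v * n⁻¹)
          (Subgroup.mul_mem _ (Subgroup.mul_mem _ hn hv) (Subgroup.inv_mem _ hn)) hnm
          (sq_conj C h2)
        refine ⟨g * n, Subgroup.mul_mem _ hg hn, hgc.mul hnc, l, hl, hgood, ?_⟩
        rw [← e]; group
      · rw [List.any_eq_true] at hany
        obtain ⟨c, hc, hcc⟩ := hany
        simp only [Bool.and_eq_true, Nat.beq_eq] at hcc
        obtain ⟨rfl, hrest⟩ := hcc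
        have hcb := hcases c hc
        unfold caseB at hcb
        split at hcb
        · simp at hcb
        rename_i ch hch
        simp only [Bool.and_eq_true, Nat.blt_eq] at hcb
        obtain ⟨⟨⟨⟨⟨hlt, -⟩, hlays⟩, hFch⟩, hcomm⟩, hforms⟩ := hcb
        obtain ⟨y, hy, hyc, v', hv', hvm', e1⟩ :=
          kill_all C hF ht hok c.lays c.rest hlays v hv (closure_sub hrest hvm) h2
        set x := X C c.o t with hx
        have hxv : Commute x v' := by
          have hroot : ∀ r ∈ orbL c.o, ∀ a : K, Commute (xU chevE6 r a) v' := fun r hr a => by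
            simp only [List.all_eq_true, Bool.and_eq_true, Nat.blt_eq] at hcomm
            suffices H : ∀ z0 ∈ rootClosure chevE6 K (· ∈ ch.S), Commute (xU chevE6 r a) z0 from
              H v' hvm'
            intro z0 hz0
            induction hz0 using Subgroup.closure_induction with
            | mem z hz =>
              obtain ⟨s, b, hs, hsS, rfl⟩ := hz
              exact commute_roots C (orb_lt ho r hr).2 (hcomm r hr s hsS).1 (hcomm r hr s hsS).2 a b
            | one => exact Commute.one_right _
            | mul _ _ _ _ h1 h2 => exact h1.mul_right h2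
            | inv _ _ h1 => exact h1.inv_right
          by_cases e : rho c.o = c.o
          · rw [hx, X, if_pos e]; exact hroot _ (by simp [orbL, e]) _
          · rw [hx, X, if_neg e]
            exact (hroot _ (by simp [orbL, e]) _).mul_left (hroot _ (by simp [orbL, e]) _)
        have hv2 : v' * v' = 1 := by
          have h3 : x * v' * (x * v') = 1 := by rw [← e1]; exact sq_conj C h2
          rwa [show x * v' * (x * v') = x * (v' * x) * v' by group, ← hxv.eq,
            show x * (x * v') * v' = (x * x) * (v' * v') by group, hx, X_sq C ho, one_mul] at h3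
        obtain ⟨g, hg, hgc, l, hl, hgood, e2⟩ := ih c.child hlt ch hch v' hv' hvm' hv2
        simp only [List.all_eq_true, List.elem_eq_mem, decide_eq_true_eq] at hFch hforms
        have hgx : Commute g x := by
          have hr : ∀ r ∈ orbL c.o, ∀ a : K, Commute g (xU chevE6 r a) := fun r hr a =>
            hgc r (hFch r (List.mem_append_right _ hr)) a
          by_cases e : rho c.o = c.o
          · rw [hx, X, if_pos e]; exact hr _ (by simp [orbL, e]) _
          · rw [hx, X, if_neg e]
            exact (hr _ (by simp [orbL, e]) _).mul_right (hr _ (by simp [orbL, e]) _)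
        refine ⟨g * y, Subgroup.mul_mem _ hg hy, (show Cent st.F g from fun r hr a =>
          hgc r (hFch r (List.mem_append_left _ hr)) a).mul hyc, (c.o, t) :: l,
          hforms _ hl, ?_, ?_⟩
        · intro z hz
          rcases List.mem_cons.1 hz with rfl | hz
          exacts [⟨ht, hok⟩, hgood z hz]
        · rw [show g * y * (x * v) * (g * y)⁻¹ = g * (y * (x * v) * y⁻¹) * g⁻¹ by group, e1,
            show g * (x * v') * g⁻¹ = (g * x * g⁻¹) * (g * v' * g⁻¹) by group, e2, hgx.eq,
            mul_inv_cancel_right]
          simp [prodX, hx]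

end CfsgLib.Chev.TwistInvol.E6
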