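import Cfsg.Agent.Lib.Known.TwistInvol.Coord
import Cfsg.Agent.Lib.Chev.Twist.E6Main
import Cfsg.Agent.Lib.Known.LacedInvol.E6

/-!
# Tools for the involutions of the groups of type ²E₆ in characteristic two

The fixed elements on a root fixed by the graph map and on a pair of roots exchanged by it, the
orbit words permuting the root elements, and coordinates of fixed elements on stable layers.
-/

set_option autoImplicit false
set_option maxRecDepth 20000
set_option synthInstance.maxSize 4000

namespace CfsgLib.Chev.TwistInvol.E6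

open Cfsg.Lie CfsgLib.Chev.Table CfsgLib.Chev.EvenInvol CfsgLib.Chev.LacedInvol

universe v

theorem nh : chevE6.nroots = 72 ∧ chevE6.nroots / 2 = 36 := by decide +kernel

/-- The graph map on the roots. -/
def rho (r : ℕ) : ℕ := parE6.rho r

/-- A positive root fixed by the graph map. -/
def fixB (r : ℕ) : Bool := Nat.ble 36 r && Nat.blt r 72 && (rho r == r)

/-- Two positive commuting roots exchanged by the graph map. -/
def pairB (r s : ℕ) : Bool :=
  Nat.ble 36 r && Nat.blt r 72 && Nat.ble 36 s && Nat.blt s 72 && (rho r == s) && (rho s == r) &&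
    commT2 DataE6.tab r s

/-- The roots of the orbit of `p`. -/
def orbL (p : ℕ) : List ℕ := if rho p = p then [p] else [p, rho p]

/-- An orbit of the graph map on the positive roots. -/
def orbB (p : ℕ) : Bool := if rho p = p then fixB p else pairB p (rho p)

theorem lt_of {r : ℕ} (h : r < 72) : r < chevE6.nroots := nh.1.symm ▸ h

theorem orb_lt {p : ℕ} (h : orbB p = true) : ∀ r ∈ orbL p, 36 ≤ r ∧ r < 72 := by
  intro r hr
  by_cases e : rho p = p
  · simp only [orbB, e, if_true, fixB, Bool.and_eq_true, Nat.ble_eq, Nat.blt_eq] at h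
    simp only [orbL, e, if_true, List.mem_singleton] at hr
    subst hr; exact h.1
  · simp only [orbB, e, if_false, pairB, Bool.and_eq_true, Nat.ble_eq, Nat.blt_eq] at h
    simp only [orbL, e, if_false, List.mem_cons, List.not_mem_nil, or_false] at hr
    rcases hr with rfl | rfl
    exacts [⟨h.1.1.1.1.1.1, h.1.1.1.1.1.2⟩, ⟨h.1.1.1.1.2, h.1.1.1.2⟩]

/-- A layer stable under the graph map. -/
def lyB (L M : List ℕ) : Bool :=
  coordB chevE6 (L ++ M) && layerB DataE6.tab L M &&
    L.all (fun r => L.elem (rho r)) && M.all (fun r => M.elem (rho r))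

theorem layer {L M : List ℕ} (h : lyB L M = true) : Layer chevE6 DataE6.tab L M := by
  simp only [lyB, Bool.and_eq_true] at h
  exact ⟨DataE6.facts, DataE6.chk_arrays, DataE6.chk_chain, DataE6.short, h.1.1.1, h.1.1.2⟩

instance : NeZero TwE6.spec.length := ⟨by decide⟩

/-- The word of a list of orbit reflections on the nodes. -/
def wordO (ws : List (Fin TwE6.spec.length)) : List (Fin chevE6.rank) :=
  ws.flatMap fun o => (TwE6.O o).word

/-- The image of a root under a list of orbit reflections. -/
def img (ws : List (Fin TwE6.spec.length)) (r : ℕ) : ℕ :=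
  actT DataE6.tab ((wordO ws).map Fin.val) r

theorem closure_sub {K : Type v} [Field K] {A B : List ℕ}
    (h : A.all (fun r => B.elem r) = true) :
    rootClosure chevE6 K (· ∈ A) ≤ rootClosure chevE6 K (· ∈ B) :=
  rootClosure_mono fun r _ hr => by
    have := List.all_eq_true.1 h r hr
    simpa using this

variable {K : Type v} [Field K] [Fintype K] {q : ℕ} (C : TwE6.Ctx K q) [CharP K 2]
include C

/-- The twisted group. -/
local notation "G" => twistedE6 K q

omit [CharP K 2] in
theorem f_ne {a : K} (ha : a ≠ 0) : C.f a ≠ 0 := (map_ne_zero C.f).2 ha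

theorem img_x {r : ℕ} (hr : r < chevE6.nroots) (t : K) :
    Img C.σ (xU chevE6 r t) (xU chevE6 (rho r) (C.f t)) := by
  have h := C.sig.img_xU hr t
  rcases parE6_ok.eps_pm r hr with he | he <;>
    simpa [TwPar.coef, he, show parE6.lam r = 1 from rfl, CharTwo.neg_eq, rho] using h

theorem commute_roots {r s : ℕ} (hr : r < 72) (hs : s < 72)
    (h : commT2 DataE6.tab r s = true) (a b : K) :
    Commute (xU chevE6 r a) (xU chevE6 s b) := by
  obtain ⟨h1, h2, h3⟩ := commT2_spec DataE6.chk_arrays DataE6.chk_chain DataE6.short (lt_of hr)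
    (lt_of hs) h
  exact commute_even DataE6.facts C.sig.hC (lt_of hr) (lt_of hs) h1 h2 h3 a b

theorem fix_mem {r : ℕ} (h : fixB r = true) {c : K} (hc : C.f c = c) : xU chevE6 r c ∈ G := by
  simp only [fixB, Bool.and_eq_true, Nat.ble_eq, Nat.blt_eq, beq_iff_eq] at h
  obtain ⟨⟨hr', hr⟩, e⟩ := h
  refine C.sys.posU_le ⟨mem_fixS.2 ?_,
    xU_mem_rootClosure (P := fun k => chevE6.nroots / 2 ≤ k) (lt_of hr) (nh.2.symm ▸ hr') _⟩
  have := img_x C (lt_of hr) c
  rwa [e, hc] at this

theorem pair_mem {r s : ℕ} (h : pairB r s = true) (a : K) :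
    xU chevE6 r a * xU chevE6 s (C.f a) ∈ G := by
  simp only [pairB, Bool.and_eq_true, Nat.ble_eq, Nat.blt_eq, beq_iff_eq] at h
  obtain ⟨⟨⟨⟨⟨⟨hr', hr⟩, hs'⟩, hs⟩, e1⟩, e2⟩, hc⟩ := h
  refine C.sys.posU_le ⟨mem_fixS.2 ?_, Subgroup.mul_mem _
    (xU_mem_rootClosure (P := fun k => chevE6.nroots / 2 ≤ k) (lt_of hr) (nh.2.symm ▸ hr') _)
    (xU_mem_rootClosure (P := fun k => chevE6.nroots / 2 ≤ k) (lt_of hs) (nh.2.symm ▸ hs') _)⟩
  have hi := (img_x C (lt_of hr) a).mul (img_x C (lt_of hs) (C.f a))
  rw [e1, e2, C.pow_two, ← (commute_roots C hr hs hc a (C.f a)).eq] at hi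
  exact hi

/-- The fixed element on the orbit of `p` with parameter `t`. -/
noncomputable def X (p : ℕ) (t : K) : GL chevE6.Idx K :=
  if rho p = p then xU chevE6 p t else xU chevE6 p t * xU chevE6 (rho p) (C.f t)

/-- The parameters of the fixed elements on the orbit of `p`. -/
def OkP (p : ℕ) (t : K) : Prop := rho p = p → C.f t = t

theorem X_mem {p : ℕ} (h : orbB p = true) {t : K} (ht : OkP C p t) : X C p t ∈ G := by
  by_cases e : rho p = p
  · simp only [orbB, e, if_true] at h
    rw [X, if_pos e]
    exact fix_mem C h (ht e)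
  · simp only [orbB, e, if_false] at h
    rw [X, if_neg e]
    exact pair_mem C h t

theorem X_sq {p : ℕ} (h : orbB p = true) (t : K) : X C p t * X C p t = 1 := by
  have hlt := orb_lt h
  have self : ∀ {r}, r < 72 → ∀ a : K, xU chevE6 r a * xU chevE6 r a = 1 := fun hr a =>
    LacedInvol.xU_self DataE6.facts (lt_of hr) a
  by_cases e : rho p = p
  · rw [X, if_pos e]
    exact self (hlt p (by simp [orbL, e])).2 t
  · simp only [orbB, e, if_false, pairB, Bool.and_eq_true] at h
    have h1 := (hlt p (by simp [orbL, e])).2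
    have h2 := (hlt (rho p) (by simp [orbL, e])).2
    rw [X, if_neg e, (commute_roots C h1 h2 h.2 t (C.f t)).symm.mul_mul_mul_comm, self h1, self h2,
      one_mul]

theorem X_inv {p : ℕ} (h : orbB p = true) (t : K) : (X C p t)⁻¹ = X C p t :=
  inv_eq_of_mul_eq_one_right (X_sq C h t)

theorem X_zero {p : ℕ} (h : orbB p = true) : X C p (0 : K) = 1 := by
  have hlt := orb_lt h
  by_cases e : rho p = p
  · rw [X, if_pos e, DataE6.facts.xU_zero (lt_of (hlt p (by simp [orbL, e])).2)]
  · rw [X, if_neg e, map_zero, DataE6.facts.xU_zero (lt_of (hlt p (by simp [orbL, e])).2),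
      DataE6.facts.xU_zero (lt_of (hlt (rho p) (by simp [orbL, e])).2), one_mul]

/-- The coordinates of a fixed element agree with the graph map. -/
theorem rel {L M : List ℕ} (h : lyB L M = true) {g : GL chevE6.Idx K} (hg : g ∈ fixS C.σ)
    {f : ℕ → K} (hf : IsCd chevE6 L M g f) : ∀ r ∈ L, f (rho r) = C.f (f r) := by
  have hl := layer h
  simp only [lyB, Bool.and_eq_true, List.all_eq_true, List.elem_eq_mem, decide_eq_true_eq] at h
  obtain ⟨⟨-, hL⟩, hM⟩ := h
  have hlt : ∀ r ∈ L, r < chevE6.nroots := fun r hr => hl.mem_lt (List.mem_append_left M hr)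
  have hnd : L.Nodup := (List.nodup_append.1 (Facts.coord_nodup hl.coord)).1
  have sumd : ∀ (l : List ℕ), l.Nodup → (∀ s ∈ l, s < chevE6.nroots) → ∀ (e : ℕ → K) (r : ℕ),
      r < chevE6.nroots →
      (l.map fun s => if rho s = rho r then C.f (e s) else 0).sum =
        if r ∈ l then C.f (e r) else 0 := by
    intro l
    induction l with
    | nil => simp
    | cons s l ih =>
      intro hn hsub e r hr
      rw [List.nodup_cons] at hn
      rw [List.map_cons, List.sum_cons,
        ih hn.2 (fun x hx => hsub x (List.mem_cons_of_mem _ hx)) e r hr]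
      by_cases hs : rho s = rho r
      · obtain rfl := parE6_ok.rho_inj s (hsub s (by simp)) r hr hs
        simp [hn.1]
      · have : r ≠ s := fun e => hs (by rw [e])
        simp [hs, this]
  set φ : (ℕ → K) → ℕ → K := fun e k =>
    (L.map fun r => if rho r = k then C.f (e r) else 0).sum with hφ
  have h1 := hl.map_cd C.sig.hC hl (Img C.σ) Img.one (fun _ _ _ _ a b => a.mul b)
    (fun _ _ _ a b => a.unique b) φ
    (fun e e' => by
      funext k
      simp only [hφ, Pi.add_apply, ← List.sum_map_add]
      refine congrArg List.sum (List.map_congr_left fun r _ => ?_)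
      split_ifs <;> simp)
    (by funext k; simp [hφ])
    (fun e e' hee k _ => congrArg List.sum (List.map_congr_left fun r hr => by rw [hee r hr]))
    (fun r hr c => by
      refine ⟨_, img_x C (hlt r hr) c, hl.congr C.sig.hC (hl.gen C.sig.hC (hL r hr) _) ?_⟩
      intro k _
      simp only [hφ, single]
      by_cases hk : k = rho r
      · subst hk
        rw [if_pos rfl, sumd L hnd hlt _ r (hlt r hr), if_pos hr, if_pos rfl]
      · rw [if_neg hk]
        refine (List.sum_eq_zero fun x hx => ?_).symm
        obtain ⟨s, -, rfl⟩ := List.mem_map.1 hx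
        split_ifs with h1 h2
        · exact absurd (h2 ▸ h1).symm hk
        all_goals simp)
    (fun r hr c => ⟨_, img_x C (hl.mem_lt (List.mem_append_right L hr)) c,
      xU_mem_rootClosure (parE6_ok.rho_lt r (hl.mem_lt (List.mem_append_right L hr))) (hM r hr) _⟩)
    (mem_fixS.1 hg) hf
  intro r hr
  rw [hl.unique C.sig.hC hf h1 _ (hL r hr), hφ]
  simp only
  rw [sumd L hnd hlt f r (hlt r hr), if_pos hr]

/-- A fixed element splits off its coordinate on an orbit. -/
theorem split_orb {p : ℕ} {rest : List ℕ} (hp : orbB p = true) (h : lyB (orbL p) rest = true)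
    {u : GL chevE6.Idx K} (hu : u ∈ G) (hm : u ∈ rootClosure chevE6 K (· ∈ orbL p ++ rest)) :
    ∃ t, OkP C p t ∧ ∃ w ∈ G, w ∈ rootClosure chevE6 K (· ∈ rest) ∧ u = X C p t * w := by
  obtain ⟨f, hf⟩ := (layer h).exists_cd C.sig.hC hm
  have hr := rel C h (C.sys.le_fix hu) hf p (by by_cases e : rho p = p <;> simp [orbL, e])
  have hok : OkP C p (f p) := fun e => by rw [e] at hr; exact hr.symm
  have hPF : PF chevE6 (orbL p) f = X C p (f p) := by
    by_cases e : rho p = p <;> simp [PF, orbL, X, e, hr]
  rw [IsCd, hPF, X_inv C hp] at hf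
  exact ⟨f p, hok, _, Subgroup.mul_mem _ (X_mem C hp hok) hu, hf,
    by rw [← mul_assoc, X_sq C hp, one_mul]⟩

/-- The orbit words act on the root elements in characteristic two without scalars. -/
theorem exists_word (ws : List (Fin TwE6.spec.length)) :
    ∃ g ∈ G, ∀ s < 72, img ws s < 72 ∧
      ∀ t : K, g * xU chevE6 s t * g⁻¹ = xU chevE6 (img ws s) t := by
  have hF := DataE6.facts
  have hn : ∀ l : List (Fin chevE6.rank), ∀ s < 72, actT DataE6.tab (l.map Fin.val) s < 72 ∧
      ∀ t : K, nW chevE6 K l * xU chevE6 s t * (nW chevE6 K l)⁻¹ =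
        xU chevE6 (actT DataE6.tab (l.map Fin.val) s) t := by
    intro l
    induction l with
    | nil => intro s hs; exact ⟨hs, fun t => by simp [nW, actT]⟩
    | cons i l ih =>
      intro s hs
      obtain ⟨h1, h2⟩ := ih s hs
      obtain ⟨η, e1, -, e3⟩ := hF.exists_eta (F := K) i.isLt
      have hk := (reflect_eq DataE6.chk_arrays DataE6.chk_chain i.isLt (lt_of h1) :
        chevE6.reflectRoot i.val _ = _)
      refine ⟨?_, fun t => ?_⟩
      · show DataE6.tab.refl i.val (actT DataE6.tab (l.map Fin.val) s) < 72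
        rw [← hk, ← nh.1]
        exact hF.refl_lt _ i.isLt _ (lt_of h1)
      rw [show nW chevE6 K (i :: l) = nS chevE6 K i * nW chevE6 K l by simp [nW],
        show nS chevE6 K i * nW chevE6 K l * xU chevE6 s t * (nS chevE6 K i * nW chevE6 K l)⁻¹ =
          nS chevE6 K i * (nW chevE6 K l * xU chevE6 s t * (nW chevE6 K l)⁻¹) *
            (nS chevE6 K i)⁻¹ by group, h2, nS, e3 _ (lt_of h1), mul_inv_cancel_right]
      show xU chevE6 _ _ = xU chevE6 (DataE6.tab.refl i.val (actT DataE6.tab (l.map Fin.val) s)) t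
      rw [← hk]
      rcases e1 _ (lt_of h1) with e | e <;> simp [e, CharTwo.neg_eq]
  refine ⟨nW chevE6 K (wordO ws), ?_, hn _⟩
  induction ws with
  | nil => simp [wordO, nW]
  | cons o ws ih =>
    rw [wordO, List.flatMap_cons, nW, List.map_append, List.prod_append]
    exact Subgroup.mul_mem _ (C.nW_mem_G o) ih

end CfsgLib.Chev.TwistInvol.E6
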