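import Cfsg.Agent.Lib.Known.TwistInvol.F4Fusion
import Cfsg.Agent.Lib.Known.EvenInvol.F4
import Cfsg.Agent.Lib.Chev.Twist.TitsSimple

/-!
# The involution classes of the groups of type ²F₄ and of the Tits group
-/

set_option autoImplicit false
set_option maxRecDepth 20000
set_option synthInstance.maxSize 4000
set_option Elab.async false

namespace CfsgLib.Chev.TwistInvol.F4

open Cfsg.Lie CfsgLib.Chev.Table CfsgLib.Chev.EvenInvol CfsgLib.Chev.LacedInvol

universe v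

theorem odd_centralisers :
    fuseB [2, 2, 2, 0, 1, 2, 0, 2] [39, 45] [39, 45] = true ∧ fuseB [2] [44, 47] [44, 47] = true := by
  decide +kernel

theorem comm_rep : commT2 DataF4.tab 44 47 = true ∧
    F4Invol.cert.reps.getD 2 [] = [47, 44] ∧ F4Invol.cert.reps.getD 3 [] = [39, 45] ∧
    F4Invol.cert.reps.length = 4 := by
  decide +kernel

variable {K : Type v} [Field K] [Fintype K] {m : ℕ} (C : TwF4.Ctx K m) [CharP K 2]
include C

/-- The twisted group. -/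
local notation "G" => twistedF4 K (2 ^ m)

theorem exists_conj_pos {g : GL chevF4.Idx K} (hg : g ∈ G) (h : g * g = 1) :
    ∃ u ∈ G, u ∈ rootClosure chevF4 K (chevF4.nroots / 2 ≤ ·) ∧ Cj C g u := by
  have : Fact (Nat.Prime 2) := ⟨Nat.prime_two⟩
  set U : Subgroup (GL chevF4.Idx K) := chevF4.posUnipotent K ⊓ twistedF4 K (2 ^ m)
  set U' := U.subgroupOf (twistedF4 K (2 ^ m))
  have hcU : Nat.card U' = 2 ^ ((2 * m + 1) * 12) := by
    rw [Nat.card_congr (Subgroup.subgroupOfEquivOfLe inf_le_right).toEquiv, C.card_posU, pow_mul]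
  have hidx : ¬ 2 ∣ U'.index := by
    have e := U'.card_mul_index
    rw [hcU, C.card_twisted, pow_mul 2 (2 * m + 1) 12, mul_assoc, mul_assoc, mul_assoc] at e
    rw [Nat.eq_of_mul_eq_mul_left (pow_pos (by positivity) _) e]
    have hq2 : 2 ∣ 2 ^ (2 * m + 1) := dvd_pow_self 2 (by omega)
    have hpos : 0 < 2 ^ (2 * m + 1) := by positivity
    have odd : ∀ j, 0 < j → ¬ 2 ∣ (2 ^ (2 * m + 1)) ^ j + 1 := fun j hj => by
      have := dvd_pow hq2 hj.ne'
      omega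
    have odd' : ∀ j, 0 < j → ¬ 2 ∣ (2 ^ (2 * m + 1)) ^ j - 1 := fun j hj => by
      have := dvd_pow hq2 hj.ne'
      have := pow_pos hpos j
      omega
    simp only [Nat.prime_two.dvd_mul, not_or]
    exact ⟨by simpa using odd' 1 (by norm_num), odd 3 (by norm_num), odd' 4 (by norm_num),
      odd 6 (by norm_num)⟩
  let S : Sylow 2 ↥(twistedF4 K (2 ^ m)) := (IsPGroup.of_card hcU).toSylow hidx
  have hz : IsPGroup 2 (Subgroup.zpowers (⟨g, hg⟩ : ↥(twistedF4 K (2 ^ m)))) := by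
    rintro ⟨x, n, rfl⟩
    refine ⟨1, Subtype.ext (Subtype.ext ?_)⟩
    have : (g ^ n) ^ (2 : ℕ) = 1 := by
      rw [← zpow_natCast, ← zpow_mul, mul_comm, zpow_mul, Nat.cast_two, zpow_two, h, one_zpow]
    simpa using this
  obtain ⟨P, hP⟩ := hz.exists_le_sylow
  obtain ⟨y, hy⟩ := MulAction.exists_smul_eq ↥(twistedF4 K (2 ^ m)) P S
  have h1 : MulAut.conj y ⟨g, hg⟩ ∈ (S : Subgroup ↥(twistedF4 K (2 ^ m))) := by
    rw [← hy, Sylow.coe_subgroup_smul]
    exact ⟨⟨g, hg⟩, hP (Subgroup.mem_zpowers _), rfl⟩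
  refine ⟨(y : GL chevF4.Idx K) * g * (y : GL chevF4.Idx K)⁻¹, h1.2, ?_, y, y.2, rfl⟩
  have h2 := h1.1
  rwa [DataF4.facts.posUnipotent_eq] at h2

/-- Every involution is conjugate to one of the two representatives. -/
theorem classes {g : GL chevF4.Idx K} (hg : g ∈ G) (h : g * g = 1) (h1 : g ≠ 1) :
    Cj C g (pairW C 39 45 1) ∨ Cj C g (pairW C 44 47 1) := by
  obtain ⟨u, hu, hup, hgu⟩ := exists_conj_pos C hg h
  have hne : u ≠ 1 := fun e => by
    obtain ⟨y, -, hy⟩ := hgu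
    exact h1 (by rw [show g = y⁻¹ * (y * g * y⁻¹) * y by group, hy, e]; group)
  exact fuse_red C (Red.of_cj C hgu (reduces_pos C hu hup (sq_of_cj C hgu h) hne))

/-- The representatives are involutions of the group, not conjugate to each other. -/
theorem reps :
    (pairW C 39 45 1 ∈ G ∧ orderOf (pairW C 39 45 1) = 2) ∧
    (pairW C 44 47 1 ∈ G ∧ orderOf (pairW C 44 47 1) = 2) ∧
    ¬ Cj C (pairW C 39 45 1) (pairW C 44 47 1) := by
  obtain ⟨hc, r2, r3, hlen⟩ := comm_rep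
  have hF4 := F4Invol.checked
  have hlt : ∀ {x}, x < 48 → x < chevF4.nroots := fun h => nh.1.symm ▸ h
  have e3 : pairW C 39 45 1 = P chevF4 K (F4Invol.cert.reps.getD 3 []) := by rw [r3, pairW_one]
  have e2 : pairW C 44 47 1 = P chevF4 K (F4Invol.cert.reps.getD 2 []) := by
    obtain ⟨q1, q2, q3⟩ := commT2_spec DataF4.chk_arrays DataF4.chk_chain DataF4.short
      (hlt (x := 44) (by norm_num)) (hlt (x := 47) (by norm_num)) hc
    rw [r2, pairW_one]
    simp only [P, List.map_cons, List.map_nil, List.prod_cons, List.prod_nil, mul_one]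
    exact (commute_even DataF4.facts C.sig.hC (hlt (x := 44) (by norm_num))
      (hlt (x := 47) (by norm_num)) q1 q2 q3 1 1).eq
  obtain ⟨-, o3, -⟩ := rep_spec2 (F := K) hF4 C.sig.hC (k := 3) (by omega)
  obtain ⟨-, o2, -⟩ := rep_spec2 (F := K) hF4 C.sig.hC (k := 2) (by omega)
  refine ⟨⟨pairW_mem C tabI.2.1 1, by rw [e3]; exact o3⟩,
    ⟨pairW_mem C tabII.2.1 1, by rw [e2]; exact o2⟩, ?_⟩
  rintro ⟨y, hy, e⟩
  rw [e3, e2] at e
  exact absurd (rep_inj2 (F := K) hF4 C.sig.hC (j := 3) (k := 2) (by omega) (by omega)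
    ⟨y, C.sys.le_group hy, e⟩) (by omega)

/-- The twisted group has two classes of involutions. -/
theorem ncard_classes :
    (ConjClasses.mk '' {g : ↥(twistedF4 K (2 ^ m)) | orderOf g = 2}).ncard = 2 := by
  obtain ⟨⟨hA, oA⟩, ⟨hZ, oZ⟩, hne⟩ := reps C
  have e : ConjClasses.mk '' {g : ↥(twistedF4 K (2 ^ m)) | orderOf g = 2} =
      {ConjClasses.mk ⟨_, hA⟩, ConjClasses.mk ⟨_, hZ⟩} := by
    ext c
    constructor
    · rintro ⟨g, hg, rfl⟩
      have : Fact (Nat.Prime 2) := ⟨Nat.prime_two⟩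
      rw [Set.mem_ofPred_eq, ← Subgroup.orderOf_coe, orderOf_eq_prime_iff, sq] at hg
      rcases classes C g.2 hg.1 hg.2 with ⟨x, hx, hxe⟩ | ⟨x, hx, hxe⟩
      · exact Or.inl (ConjClasses.mk_eq_mk_iff_isConj.2 (isConj_iff.2 ⟨⟨x, hx⟩, Subtype.ext hxe⟩))
      · exact Or.inr (ConjClasses.mk_eq_mk_iff_isConj.2 (isConj_iff.2 ⟨⟨x, hx⟩, Subtype.ext hxe⟩))
    · rintro (rfl | rfl)
      · exact ⟨_, by rw [Set.mem_ofPred_eq, ← Subgroup.orderOf_coe]; exact oA, rfl⟩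
      · exact ⟨_, by rw [Set.mem_ofPred_eq, ← Subgroup.orderOf_coe]; exact oZ, rfl⟩
  rw [e, Set.ncard_pair]
  intro h
  obtain ⟨x, hx⟩ := isConj_iff.1 (ConjClasses.mk_eq_mk_iff_isConj.1 h)
  exact hne ⟨x, x.2, congrArg Subtype.val hx⟩

end CfsgLib.Chev.TwistInvol.F4

namespace CfsgLib.Chev.TwistInvol.F4

open Cfsg.Lie CfsgLib.Chev.LacedInvol TwF4.Tits

/-- An odd element commuting with a product of root elements. -/
theorem exists_odd (w : List (Fin 6)) (S : List ℕ)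
    (hodd : (w.countP fun k => decide (k = 2 ∨ k = 4)) % 2 = 1)
    (h : fuseB (w.map Fin.val) S S = true) :
    ∃ c : ↥TwF4.Tits.G, c ∉ commutator ↥TwF4.Tits.G ∧
      Commute (c : GL chevF4.Idx (ZMod 2)) (TwF4.Bin.rootsU S) := by
  have hw : wordL (w.map Fin.val) = wordR w := by
    rw [wordL, wordR, List.flatMap_map]
    exact congrArg (List.flatMap · w) (funext fun k : Fin 6 => by fin_cases k <;> rfl)
  refine ⟨gw w, fun hc => gk2_not_mem ?_, ?_⟩
  · have h1 : TwF4.Tits.q (gw w) = 1 := (QuotientGroup.eq_one_iff (gw w)).2 hc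
    obtain ⟨e, h2⟩ := q_word w
    obtain ⟨j, hj⟩ : ∃ j, (w.countP fun k => decide (k = 2 ∨ k = 4)) = 2 * j + 1 := ⟨_, (Nat.div_add_mod _ 2).symm.trans (by rw [hodd])⟩
    rw [h1, hj, pow_succ, pow_mul, sq, h2, one_pow, one_mul] at e
    exact (QuotientGroup.eq_one_iff (gk 2)).1 e.symm
  · simp only [fuseB, Bool.and_eq_true, List.all_eq_true, List.elem_eq_mem, decide_eq_true_eq,
      beq_iff_eq, hw] at h
    obtain ⟨⟨hL, hM⟩, h⟩ := h
    have := rootsU_eq hL hM h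
    rw [rootsU_append, rootsU_append, ← gw_val] at this
    exact this

/-- The Tits group has two classes of involutions. -/
theorem ncard_tits :
    (ConjClasses.mk '' {g : TitsGroup | orderOf g = 2}).ncard = 2 := by
  obtain ⟨C⟩ := exists_ctx
  haveI : CharP (ZMod 2) 2 := ZMod.charP 2
  obtain ⟨⟨hA, oA⟩, ⟨hZ, oZ⟩, hne⟩ := reps C
  obtain ⟨f1, f2⟩ := odd_centralisers
  set A : ↥TwF4.Tits.G := ⟨_, hA⟩ with hAdef
  set Z : ↥TwF4.Tits.G := ⟨_, hZ⟩ with hZdef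
  have mA : A ∈ commutator ↥TwF4.Tits.G := involution_mem A (by rw [← Subgroup.orderOf_coe]; exact oA)
  have mZ : Z ∈ commutator ↥TwF4.Tits.G := involution_mem Z (by rw [← Subgroup.orderOf_coe]; exact oZ)
  have hval : ∀ r s : ℕ, pairW C r s 1 = TwF4.Bin.rootsU [r, s] := fun r s => by
    rw [pairW_one]; simp [P, TwF4.Bin.rootsU, wU]
  -- classes of the whole group met by the derived subgroup do not split
  have nosplit : ∀ x : ↥TwF4.Tits.G, (∃ c : ↥TwF4.Tits.G, c ∉ commutator ↥TwF4.Tits.G ∧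
      Commute (c : GL chevF4.Idx (ZMod 2)) x) → ∀ g : ↥TwF4.Tits.G, ∀ y, g * y * g⁻¹ = x →
      ∃ g' ∈ commutator ↥TwF4.Tits.G, g' * y * g'⁻¹ = x := by
    rintro x ⟨c, hc, hcx⟩ g y e
    by_cases hg : g ∈ commutator ↥TwF4.Tits.G
    · exact ⟨g, hg, e⟩
    refine ⟨c * g, ((commutator ↥TwF4.Tits.G).mul_mem_iff_of_index_two index_commutator).2
      (iff_of_false hc hg), ?_⟩
    have hc' : Commute c x := Subtype.ext hcx
    rw [show c * g * y * (c * g)⁻¹ = c * (g * y * g⁻¹) * c⁻¹ by group, e, hc'.eq, mul_inv_cancel_right]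
  have cA := exists_odd [2, 2, 2, 0, 1, 2, 0, 2] [39, 45] (by decide) f1
  have cZ := exists_odd [2] [44, 47] (by decide) f2
  rw [← hval] at cA cZ
  have e : ConjClasses.mk '' {g : TitsGroup | orderOf g = 2} =
      {ConjClasses.mk ⟨A, mA⟩, ConjClasses.mk ⟨Z, mZ⟩} := by
    ext c
    constructor
    · rintro ⟨g, hg, rfl⟩
      have : Fact (Nat.Prime 2) := ⟨Nat.prime_two⟩
      rw [Set.mem_ofPred_eq, ← Subgroup.orderOf_coe, ← Subgroup.orderOf_coe, orderOf_eq_prime_iff,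
        sq] at hg
      rcases classes C g.1.2 hg.1 hg.2 with ⟨x, hx, hxe⟩ | ⟨x, hx, hxe⟩
      · obtain ⟨g', hg', e'⟩ := nosplit A cA ⟨x, hx⟩ g.1 (Subtype.ext hxe)
        exact Or.inl (ConjClasses.mk_eq_mk_iff_isConj.2 (isConj_iff.2 ⟨⟨g', hg'⟩, Subtype.ext e'⟩))
      · obtain ⟨g', hg', e'⟩ := nosplit Z cZ ⟨x, hx⟩ g.1 (Subtype.ext hxe)
        exact Or.inr (ConjClasses.mk_eq_mk_iff_isConj.2 (isConj_iff.2 ⟨⟨g', hg'⟩, Subtype.ext e'⟩))
    · rintro (rfl | rfl)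
      · exact ⟨_, by rw [Set.mem_ofPred_eq, ← Subgroup.orderOf_coe, ← Subgroup.orderOf_coe]; exact oA, rfl⟩
      · exact ⟨_, by rw [Set.mem_ofPred_eq, ← Subgroup.orderOf_coe, ← Subgroup.orderOf_coe]; exact oZ, rfl⟩
  rw [e, Set.ncard_pair]
  intro h
  obtain ⟨x, hx⟩ := isConj_iff.1 (ConjClasses.mk_eq_mk_iff_isConj.1 h)
  exact hne ⟨x.1.1, x.1.2, congrArg (fun t => t.1.1) hx⟩

end CfsgLib.Chev.TwistInvol.F4
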