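import Cfsg.Agent.Lib.Known.TwistInvol.F4Reduce

/-!
# Every involution of a group of type ²F₄ reduces to two commuting pairs

An involution is conjugate into the positive unipotent group; the two orbit reflections, applied
alternately, bring a nonzero coordinate to one of the fundamental orbits.
-/

set_option autoImplicit false
set_option maxRecDepth 20000
set_option synthInstance.maxSize 4000
set_option Elab.async false

namespace CfsgLib.Chev.TwistInvol.F4

open Cfsg.Lie CfsgLib.Chev.Table CfsgLib.Chev.EvenInvol CfsgLib.Chev.LacedInvol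

universe v

/-- The check of a test of the first orbit, followed by its reflection. -/
def testAB (S1 S' : List ℕ) : Bool :=
  lyB [33, 24] S1 &&
    S1.all (fun r => [25, 26, 27, 28, 29, 30, 31, 32, 34, 35, 36, 37, 38, 39, 40, 41, 42, 43, 44, 45,
      46, 47].elem r) &&
    S1.all (fun r => S'.elem (img [⟨0, by decide⟩] r))

/-- The check of a test of the second orbit, followed by its reflection. -/
def testBB (S1 S' : List ℕ) : Bool :=
  lyB [27, 25] (28 :: 30 :: S1) && lyB [28, 30] S1 && actB DataF4.tab [28, 30] S1 27 [] &&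
    actB DataF4.tab [28, 30] S1 25 [] &&
    S1.all (fun r => [26, 29, 31, 32, 34, 35, 36, 37, 38, 39, 40, 41, 42, 43, 44, 45, 46, 47].elem r) &&
    S1.all (fun r => S'.elem (img [⟨1, by decide⟩] r))

theorem quadFirst : quadB 27 25 28 30 = true := by decide +kernel

/-- The lists of the successive tests. -/
theorem tests :
    lyB [33, 24] [25, 26, 27, 28, 29, 30, 31, 32, 34, 35, 36, 37, 38, 39, 40, 41, 42, 43, 44, 45, 46, 47] = true ∧
    testBB [26, 29, 31, 32, 34, 35, 36, 37, 38, 39, 40, 41, 42, 43, 44, 45, 46, 47]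
      [33, 24, 26, 29, 31, 34, 35, 36, 38, 39, 40, 41, 42, 43, 44, 45, 46, 47] = true ∧
    testAB [26, 29, 31, 34, 35, 36, 38, 39, 40, 41, 42, 43, 44, 45, 46, 47]
      [27, 25, 28, 30, 29, 31, 32, 35, 37, 39, 40, 41, 44, 45, 46, 47] = true ∧
    testBB [29, 31, 32, 35, 37, 39, 40, 41, 44, 45, 46, 47]
      [33, 24, 26, 29, 34, 36, 38, 41, 42, 43, 44, 47] = true ∧
    testAB [26, 29, 34, 36, 38, 41, 42, 43, 44, 47] [27, 25, 28, 30, 31, 32, 35, 37, 40, 46] = true ∧
    testBB [31, 32, 35, 37, 40, 46] [33, 24, 26, 34, 36, 42] = true ∧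
    testAB [26, 34, 36, 42] [27, 25, 28, 30] = true ∧
    testBB [] [] = true := by
  decide +kernel

variable {K : Type v} [Field K] [Fintype K] {m : ℕ} (C : TwF4.Ctx K m) [CharP K 2]
include C

/-- The twisted group. -/
local notation "G" => twistedF4 K (2 ^ m)

/-- The two normal forms. -/
def Red (g : GL chevF4.Idx K) : Prop :=
  (∃ a s : K, a ≠ 0 ∧ Cj C g (pairW C 33 24 a * pairW C 39 45 s)) ∨
    ∃ z s : K, z ≠ 0 ∧ Cj C g (pairW C 28 30 z * pairW C 44 47 s)

theorem Red.of_cj {g g' : GL chevF4.Idx K} (h : Cj C g g') (h' : Red C g') : Red C g := by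
  rcases h' with ⟨a, s, ha, hc⟩ | ⟨a, s, ha, hc⟩
  · exact Or.inl ⟨a, s, ha, h.trans C hc⟩
  · exact Or.inr ⟨a, s, ha, h.trans C hc⟩

/-- Every involution supported on `S` reduces. -/
def Reduces (S : List ℕ) : Prop :=
  ∀ u ∈ G, u ∈ rootClosure chevF4 K (· ∈ S) → u * u = 1 → u ≠ 1 → Red C u

theorem reduces_nil : Reduces C [] := by
  intro u _ hu _ hne
  have : rootClosure chevF4 K (· ∈ ([] : List ℕ)) = ⊥ := by
    refine eq_bot_iff.2 ((Subgroup.closure_le _).2 ?_)
    rintro x ⟨r, t, -, h, -⟩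
    simp at h
  rw [this, Subgroup.mem_bot] at hu
  exact absurd hu hne

/-- The step through a reflection. -/
theorem reduces_move {S1 S' : List ℕ} (o : Fin TwF4.spec.length)
    (hS : S1.all (fun r => S'.elem (img [o] r)) = true) (ih : Reduces C S') {u : GL chevF4.Idx K}
    (hu : u ∈ G) (hm : u ∈ rootClosure chevF4 K (· ∈ S1)) (h2 : u * u = 1) (hne : u ≠ 1) :
    Red C u := by
  obtain ⟨n, hn, hp⟩ := exists_n C [o]
  have hcj : Cj C u (n * u * n⁻¹) := ⟨n, hn, rfl⟩
  refine Red.of_cj C hcj (ih _ (Subgroup.mul_mem _ (Subgroup.mul_mem _ hn hu)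
    (Subgroup.inv_mem _ hn)) ?_ (sq_of_cj C hcj h2) fun e => hne ?_)
  · refine DataF4.facts.conj_rootClosure hp (fun s hs => ?_) hm
    rw [DataF4.facts.sW_val_foldr, ← act, ← img]
    simpa using List.all_eq_true.1 hS s.val hs
  · rw [show u = n⁻¹ * (n * u * n⁻¹) * n by group, e]; group

/-- The test of the first orbit. -/
theorem reduces_A {S1 S' : List ℕ} (h : testAB S1 S' = true) (ih : Reduces C S') :
    Reduces C (33 :: 24 :: S1) := by
  simp only [testAB, Bool.and_eq_true] at h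
  obtain ⟨⟨hl, hsub⟩, himg⟩ := h
  intro u hu hm h2 hne
  obtain ⟨a, w, hw, hwm, rfl, -⟩ := split_pair C hl rfl tabI.1 hu hm
  by_cases ha : a = 0
  · subst ha
    have e : pairW C 33 24 (0 : K) = 1 := by
      have e1 : (33 : ℕ) < chevF4.nroots ∧ 24 < chevF4.nroots := by rw [nh.1]; norm_num
      simp [pairW, DataF4.facts.xU_zero e1.1, DataF4.facts.xU_zero e1.2]
    rw [e, one_mul] at h2 hne ⊢
    exact reduces_move C _ himg ih hw hwm h2 hne
  · obtain ⟨s, hs⟩ := caseI C ha hw (closure_sub hsub hwm) h2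
    exact Or.inl ⟨a, s, ha, hs⟩

/-- The test of the second orbit. -/
theorem reduces_B {S1 S' : List ℕ} (h : testBB S1 S' = true) (ih : Reduces C S') :
    Reduces C (27 :: 25 :: 28 :: 30 :: S1) := by
  simp only [testBB, Bool.and_eq_true] at h
  obtain ⟨⟨⟨⟨⟨h1, hl⟩, ha⟩, hb⟩, hsub⟩, himg⟩ := h
  intro u hu hm h2 hne
  have hm' := quad_sq C quadFirst h1 hl ha hb hu hm h2
  obtain ⟨z, w, hw, hwm, rfl, -⟩ := split_pair C hl rfl tabII.1 hu hm'
  by_cases hz : z = 0
  · subst hz
    have e : pairW C 28 30 (0 : K) = 1 := by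
      have e1 : (28 : ℕ) < chevF4.nroots ∧ 30 < chevF4.nroots := by rw [nh.1]; norm_num
      simp [pairW, DataF4.facts.xU_zero e1.1, DataF4.facts.xU_zero e1.2]
    rw [e, one_mul] at h2 hne ⊢
    exact reduces_move C _ himg ih hw hwm h2 hne
  · obtain ⟨s, hs⟩ := caseII C hz hw (closure_sub hsub hwm) h2
    exact Or.inr ⟨z, s, hz, hs⟩

theorem reduces_congr {S S' : List ℕ} (h : S.all (fun r => S'.elem r) = true) (h' : Reduces C S') :
    Reduces C S := fun u hu hm => h' u hu (closure_sub h hm)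

/-- Every involution of the positive unipotent group reduces. -/
theorem reduces_pos {u : GL chevF4.Idx K} (hu : u ∈ G)
    (hm : u ∈ rootClosure chevF4 K (chevF4.nroots / 2 ≤ ·)) (h2 : u * u = 1) (hne : u ≠ 1) :
    Red C u := by
  obtain ⟨h0, b1, a1, b2, a2, b3, a3, b4⟩ := tests
  have r7 := reduces_B C b4 (reduces_nil C)
  have r6 := reduces_A C a3 r7
  have r5 := reduces_B C b3 r6
  have r4 := reduces_A C a2 r5
  have r3 := reduces_B C b2 r4
  have r2 := reduces_A C a1 r3
  have r1 := reduces_B C b1 r2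
  have hm' : u ∈ rootClosure chevF4 K (· ∈ [33, 24] ++ [25, 26, 27, 28, 29, 30, 31, 32, 34, 35, 36, 37,
      38, 39, 40, 41, 42, 43, 44, 45, 46, 47]) := by
    refine rootClosure_mono (fun r hr h => ?_) hm
    rw [nh.2] at h
    rw [nh.1] at hr
    simp only [List.cons_append, List.nil_append, List.mem_cons, List.not_mem_nil, or_false]
    omega
  obtain ⟨a, w, hw, hwm, rfl, -⟩ := split_pair C h0 rfl tabI.1 hu hm'
  by_cases ha : a = 0
  · subst ha
    have e : pairW C 33 24 (0 : K) = 1 := by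
      have e1 : (33 : ℕ) < chevF4.nroots ∧ 24 < chevF4.nroots := by rw [nh.1]; norm_num
      simp [pairW, DataF4.facts.xU_zero e1.1, DataF4.facts.xU_zero e1.2]
    rw [e, one_mul] at h2 hne ⊢
    exact reduces_congr C (by decide) r1 w hw hwm h2 hne
  · obtain ⟨s, hs⟩ := caseI C ha hw hwm h2
    exact Or.inl ⟨a, s, ha, hs⟩

end CfsgLib.Chev.TwistInvol.F4
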