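import Cfsg.Agent.Lib.Known.TwistInvol.F4Descent
import Cfsg.Agent.Lib.Chev.Twist.Tits

/-!
# Fusion of the normal forms of involutions of type ²F₄

The torus scales the parameters to one; identities over the prime field, carried to any field, fuse
the normal forms into two representatives.
-/

set_option autoImplicit false
set_option maxRecDepth 20000
set_option synthInstance.maxSize 4000
set_option Elab.async false

namespace CfsgLib.Chev.TwistInvol.F4

open Cfsg.Lie CfsgLib.Chev.Table CfsgLib.Chev.EvenInvol CfsgLib.Chev.LacedInvol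

universe v

/-- The roots of the six generators over the prime field. -/
def genL : List (List ℕ) := [[33, 24], [14, 23], [27, 25, 28], [28, 30], [20, 22, 19], [19, 17]]

/-- The roots of a word in the generators. -/
def wordL (w : List ℕ) : List ℕ := w.flatMap fun k => genL.getD k []

/-- A word carrying the product along `S` to the product along `S'`. -/
def fuseB (w S S' : List ℕ) : Bool :=
  (wordL w ++ S).all (fun r => TwF4.Bin.xroots.elem r) &&
    (S' ++ wordL w).all (fun r => TwF4.Bin.xroots.elem r) &&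
    TwF4.Bin.rootsC (wordL w ++ S) == TwF4.Bin.rootsC (S' ++ wordL w)

theorem fusions :
    fuseB [3, 0, 2, 4, 1, 4] [39, 45] [33, 24] = true ∧
    fuseB [4, 4, 4, 2, 2, 2, 0, 1, 4, 3] [33, 24, 39, 45] [39, 45] = true ∧
    fuseB [0, 1, 4, 2] [39, 45] [28, 30, 44, 47] = true ∧
    fuseB [0, 2, 1, 5, 0, 1] [44, 47] [28, 30] = true := by
  decide +kernel

theorem scale_tables :
    lyB [33, 24] [] = true ∧ lyB [39, 45] [] = true ∧ lyB [28, 30] [] = true ∧
    lyB [44, 47] [] = true ∧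
    (List.range 4).map (fun i => (chevF4.cartan i 24, chevF4.cartan i 45, chevF4.cartan i 30,
      chevF4.cartan i 47)) = [(0, 0, -2, 0), (0, 2, 2, 0), (-1, -1, 0, 0), (2, 0, -1, 1)] := by
  decide +kernel

variable {K : Type v} [Field K] [Fintype K] {m : ℕ} (C : TwF4.Ctx K m) [CharP K 2]
include C

/-- The twisted group. -/
local notation "G" => twistedF4 K (2 ^ m)

theorem Cj.symm {g g' : GL chevF4.Idx K} (h : Cj C g g') : Cj C g' g := by
  obtain ⟨y, hy, rfl⟩ := h
  exact ⟨y⁻¹, Subgroup.inv_mem _ hy, by group⟩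

theorem gen_mem (k : ℕ) : P chevF4 K (genL.getD k []) ∈ G := by
  have hF := DataF4.facts
  have z : ∀ r < chevF4.nroots, xU chevF4 r (0 : K) = 1 := fun r hr => hF.xU_zero hr
  have hl : ∀ r ∈ [27, 25, 30, 20, 22, 17], r < chevF4.nroots := by decide +kernel
  match k with
  | 0 => simpa [P, genL, wU, f4PairWord, f4p1, f4p4] using C.mem_gen (Or.inl ⟨1, Or.inl rfl⟩)
  | 1 => simpa [P, genL, wU, f4PairWord, f4m1, f4m4] using C.mem_gen (Or.inl ⟨1, Or.inr rfl⟩)
  | 2 => simpa [P, genL, wU, b2ClassWord, f4a, f4b, f4ab, f4aab, z 30 (hl 30 (by simp))] using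
      C.mem_gen (Or.inr ⟨1, 0, Or.inl rfl⟩)
  | 3 => simpa [P, genL, wU, b2ClassWord, f4a, f4b, f4ab, f4aab, z 27 (hl 27 (by simp)), z 25 (hl 25 (by simp))] using
      C.mem_gen (Or.inr ⟨0, 1, Or.inl rfl⟩)
  | 4 => simpa [P, genL, wU, b2ClassWord, f4ma, f4mb, f4mab, f4maab, z 17 (hl 17 (by simp))] using
      C.mem_gen (Or.inr ⟨1, 0, Or.inr rfl⟩)
  | 5 => simpa [P, genL, wU, b2ClassWord, f4ma, f4mb, f4mab, f4maab, z 20 (hl 20 (by simp)), z 22 (hl 22 (by simp))] using
      C.mem_gen (Or.inr ⟨0, 1, Or.inr rfl⟩)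
  | k + 6 => simp [P, genL, Subgroup.one_mem]


theorem word_mem (w : List ℕ) : P chevF4 K (wordL w) ∈ G := by
  induction w with
  | nil => simp [P, wordL, Subgroup.one_mem]
  | cons k w ih =>
    rw [show P chevF4 K (wordL (k :: w)) = P chevF4 K (genL.getD k []) * P chevF4 K (wordL w) by
      simp [P, wordL]]
    exact Subgroup.mul_mem _ (gen_mem C k) ih

omit C [Fintype K] in
/-- A root element over the prime field, carried to the field. -/
theorem map_xU (ι : ZMod 2 →+* K) {r : ℕ} (hr : r < chevF4.nroots) (t : ZMod 2) :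
    Matrix.GeneralLinearGroup.map ι (xU chevF4 r t) = xU chevF4 r (ι t) := by
  refine Units.ext ?_
  rw [DataF4.facts.xU_val' hr]
  ext a b
  show ι (((xU chevF4 r t : GL chevF4.Idx (ZMod 2)) : Matrix chevF4.Idx chevF4.Idx (ZMod 2)) a b) = _
  rw [DataF4.facts.xU_val' hr, xR, xR, Matrix.sum_apply, Matrix.sum_apply, map_sum]
  refine Finset.sum_congr rfl fun k _ => ?_
  simp only [Matrix.smul_apply, smul_eq_mul, map_mul, map_pow]
  congr 1
  exact map_intCast ι _

omit C [Fintype K] in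
/-- A product of root elements over the prime field, carried to the field. -/
theorem map_roots (ι : ZMod 2 →+* K) : ∀ L : List ℕ, (∀ r ∈ L, r ∈ TwF4.Bin.xroots) →
    Matrix.GeneralLinearGroup.map ι (TwF4.Bin.rootsU L) = P chevF4 K L := by
  intro L
  induction L with
  | nil => intro _; simp [TwF4.Bin.rootsU, P, wU]
  | cons r L ih =>
    intro h
    have e : TwF4.Bin.rootsU (r :: L) = xU chevF4 r 1 * TwF4.Bin.rootsU L := by
      simp [TwF4.Bin.rootsU, wU]
    have e' : P chevF4 K (r :: L) = xU chevF4 r 1 * P chevF4 K L := by simp [P]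
    rw [e, e', map_mul, map_xU ι (TwF4.Bin.xroots_lt r (h r List.mem_cons_self)), map_one,
      ih fun s hs => h s (List.mem_cons_of_mem _ hs)]

theorem fuse {w S S' : List ℕ} (h : fuseB w S S' = true) :
    Cj C (P chevF4 K S) (P chevF4 K S') := by
  simp only [fuseB, Bool.and_eq_true, List.all_eq_true, List.elem_eq_mem, decide_eq_true_eq,
    beq_iff_eq] at h
  obtain ⟨⟨hL, hM⟩, h⟩ := h
  have e := congrArg (Matrix.GeneralLinearGroup.map (ZMod.castHom (dvd_refl 2) K))
    (TwF4.Tits.rootsU_eq hL hM h)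
  rw [map_roots _ _ hL, map_roots _ _ hM] at e
  simp only [P, List.map_append, List.prod_append] at e
  exact ⟨P chevF4 K (wordL w), word_mem C w, mul_inv_eq_iff_eq_mul.2 e⟩

theorem pairW_one {r s : ℕ} : pairW C r s 1 = P chevF4 K [r, s] := by
  simp [pairW, P]

theorem pairW_two {r s r' s' : ℕ} :
    pairW C r s 1 * pairW C r' s' 1 = P chevF4 K [r, s, r', s'] := by
  simp [pairW, P, mul_assoc]

/-- The torus, by the long character. -/
theorem scale_pair {r s : ℕ} (hl : lyB [r, s] [] = true) (hp : pairB r s = true) (c : ℕ → Kˣ)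
    (hc : hT chevF4 c ∈ G) (a : K)
    (he : ((∏ i ∈ Finset.range chevF4.rank, c i ^ chevF4.cartan i s : Kˣ) : K) * C.f a ^ 2 = 1) :
    hT chevF4 c * pairW C r s a * (hT chevF4 c)⁻¹ = pairW C r s 1 := by
  have hC := C.sig.hC
  have hp' := hp
  simp only [pairB, Bool.and_eq_true, decide_eq_true_eq, beq_iff_eq] at hp'
  obtain ⟨⟨⟨⟨⟨⟨⟨-, hr, -, hs⟩, e1⟩, -⟩, l1⟩, -⟩, -⟩, -⟩ := hp'
  have hrN : r < chevF4.nroots := nh.1.symm ▸ hr
  have hsN : s < chevF4.nroots := nh.1.symm ▸ hs
  have hne : r ≠ s := by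
    have := Facts.coord_nodup (layer hl).coord
    simp at this
    exact this
  have hmem : hT chevF4 c * pairW C r s a * (hT chevF4 c)⁻¹ ∈ G :=
    Subgroup.mul_mem _ (Subgroup.mul_mem _ hc (pairW_mem C hp a)) (Subgroup.inv_mem _ hc)
  have e0 : hT chevF4 c * pairW C r s a * (hT chevF4 c)⁻¹ =
      xU chevF4 r (((∏ i ∈ Finset.range chevF4.rank, c i ^ chevF4.cartan i r : Kˣ) : K) * a) *
        xU chevF4 s (((∏ i ∈ Finset.range chevF4.rank, c i ^ chevF4.cartan i s : Kˣ) : K) * C.f a ^ 2) := by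
    rw [← DataF4.facts.hT_conj_xU c hrN, ← DataF4.facts.hT_conj_xU c hsN, pairW]
    group
  rw [e0, he] at hmem ⊢
  set b : K := ((∏ i ∈ Finset.range chevF4.rank, c i ^ chevF4.cartan i r : Kˣ) : K) * a
  have hcd := (layer hl).mul hC ((layer hl).gen hC (r := r) (by simp) b)
    ((layer hl).gen hC (r := s) (by simp) (1 : K))
  have := rel C hl (C.sys.le_fix hmem) hcd r (by simp)
  rw [e1, coef_eq C hrN, l1] at this
  simp [single, hne, Ne.symm hne] at this
  have hb : b = 1 := C.f.injective (by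
    rw [map_one]; exact CharTwo.sq_injective (R := K) (by simpa using this.symm))
  rw [hb, pairW, map_one, one_pow]

theorem par_mem (x y : Kˣ) :
    hT chevF4 (TwF4.four (C.fu x) (C.fu y) y x) ∈ G :=
  (C.range_le ⟨(x, y), rfl⟩).2

theorem chars (x y : Kˣ) :
    (∏ i ∈ Finset.range chevF4.rank, TwF4.four (C.fu x) (C.fu y) y x i ^ chevF4.cartan i 24) =
      x ^ 2 / y ∧
    (∏ i ∈ Finset.range chevF4.rank, TwF4.four (C.fu x) (C.fu y) y x i ^ chevF4.cartan i 45) =
      C.fu y ^ 2 / y ∧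
    (∏ i ∈ Finset.range chevF4.rank, TwF4.four (C.fu x) (C.fu y) y x i ^ chevF4.cartan i 30) =
      C.fu y ^ 2 / (C.fu x ^ 2 * x) ∧
    (∏ i ∈ Finset.range chevF4.rank, TwF4.four (C.fu x) (C.fu y) y x i ^ chevF4.cartan i 47) = x := by
  have t := scale_tables.2.2.2.2
  simp only [List.range, List.range.loop, List.map_cons, List.map_nil, List.cons.injEq,
    Prod.mk.injEq, and_true] at t
  obtain ⟨⟨a1, a2, a3, a4⟩, ⟨b1, b2, b3, b4⟩, ⟨c1, c2, c3, c4⟩, d1, d2, d3, d4⟩ := t
  rw [show chevF4.rank = 4 from TwF4.torus_tables.2.2.2.2.2.2.2.2.1]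
  simp [Finset.prod_range_succ, TwF4.four, a1, a2, a3, a4, b1, b2, b3, b4, c1, c2, c3, c4, d1, d2,
    d3, d4, div_eq_mul_inv, mul_comm, mul_left_comm]

theorem sq_surj (u : Kˣ) : ∃ x : Kˣ, x ^ 2 = u := by
  have hinj : Function.Injective fun x : Kˣ => x ^ 2 := fun x y h => by
    simp only at h
    refine div_eq_one.1 (C.sq_eq_one (X := x / y) ?_)
    rw [div_mul_div_comm, ← sq, ← sq, h, div_self']
  exact (Finite.injective_iff_surjective.1 hinj) u

/-- Two commuting pairs scale to parameters one or zero. -/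
theorem scale_two {r s r' s' : ℕ} (hl : lyB [r, s] [] = true) (hp : pairB r s = true)
    (hl' : lyB [r', s'] [] = true) (hp' : pairB r' s' = true) {a b : K} (ha : a ≠ 0)
    (hsolve : ∀ u v : Kˣ, ∃ x y : Kˣ,
      (∏ i ∈ Finset.range chevF4.rank, TwF4.four (C.fu x) (C.fu y) y x i ^ chevF4.cartan i s) = u ∧
      (∏ i ∈ Finset.range chevF4.rank, TwF4.four (C.fu x) (C.fu y) y x i ^ chevF4.cartan i s') = v) :
    Cj C (pairW C r s a * pairW C r' s' b) (pairW C r s 1) ∨
      Cj C (pairW C r s a * pairW C r' s' b) (pairW C r s 1 * pairW C r' s' 1) := by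
  set u := Units.mk0 _ (f_ne C ha)
  by_cases hb : b = 0
  · obtain ⟨x, y, hx, -⟩ := hsolve u⁻¹ 1
    refine Or.inl ⟨_, par_mem C x y, ?_⟩
    have h0 : pairW C r' s' b = 1 := by
      have hp2 := hp'
      simp only [pairB, Bool.and_eq_true, decide_eq_true_eq] at hp2
      obtain ⟨⟨⟨⟨⟨⟨⟨-, hr, -, hs⟩, -⟩, -⟩, -⟩, -⟩, -⟩, -⟩ := hp2
      simp [pairW, hb, DataF4.facts.xU_zero (nh.1.symm ▸ hr : r' < chevF4.nroots),
        DataF4.facts.xU_zero (nh.1.symm ▸ hs : s' < chevF4.nroots)]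
    rw [h0, mul_one]
    exact scale_pair C hl hp _ (par_mem C x y) a (by rw [hx]; exact u.inv_mul)
  · set v := Units.mk0 _ (f_ne C hb)
    obtain ⟨x, y, hx, hy⟩ := hsolve u⁻¹ v⁻¹
    refine Or.inr ⟨_, par_mem C x y, ?_⟩
    rw [show ∀ h p q : GL chevF4.Idx K, h * (p * q) * h⁻¹ = (h * p * h⁻¹) * (h * q * h⁻¹) from
      fun h p q => by group, scale_pair C hl hp _ (par_mem C x y) a (by rw [hx]; exact u.inv_mul),
      scale_pair C hl' hp' _ (par_mem C x y) b (by rw [hy]; exact v.inv_mul)]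

theorem solveI (u v : Kˣ) : ∃ x y : Kˣ,
    (∏ i ∈ Finset.range chevF4.rank, TwF4.four (C.fu x) (C.fu y) y x i ^ chevF4.cartan i 24) = u ∧
    (∏ i ∈ Finset.range chevF4.rank, TwF4.four (C.fu x) (C.fu y) y x i ^ chevF4.cartan i 45) = v := by
  have hinj : Function.Injective fun y : Kˣ => C.fu y ^ 2 / y := fun y z h => by
    have h' : C.fu (y / z) ^ 2 = y / z := by
      simp only at h
      rw [map_div, div_pow, div_eq_div_iff_div_eq_div]
      exact h
    refine div_eq_one.1 (C.eq_one_of_fix ?_)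
    conv_lhs => rw [← h']
    rw [map_pow, sq, C.fu_theta]
  obtain ⟨y, hy⟩ := (Finite.injective_iff_surjective.1 hinj) v
  obtain ⟨x, hx⟩ := sq_surj C (u * y)
  refine ⟨x, y, ?_, (chars C x y).2.1.trans hy⟩
  rw [(chars C x y).1, hx, mul_div_cancel_right]

theorem solveII (u v : Kˣ) : ∃ x y : Kˣ,
    (∏ i ∈ Finset.range chevF4.rank, TwF4.four (C.fu x) (C.fu y) y x i ^ chevF4.cartan i 30) = u ∧
    (∏ i ∈ Finset.range chevF4.rank, TwF4.four (C.fu x) (C.fu y) y x i ^ chevF4.cartan i 47) = v := by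
  obtain ⟨w, hw⟩ := sq_surj C (u * (C.fu v ^ 2 * v))
  refine ⟨v, C.fu w * C.fu w, ?_, (chars C v _).2.2.2⟩
  rw [(chars C v _).2.2.1, map_mul, C.fu_theta, hw, mul_div_cancel_right]

/-- The normal forms fuse into two. -/
theorem fuse_red {g : GL chevF4.Idx K} (h : Red C g) :
    Cj C g (pairW C 39 45 1) ∨ Cj C g (pairW C 44 47 1) := by
  obtain ⟨l1, l2, l3, l4, -⟩ := scale_tables
  obtain ⟨f1, f2, f3, f4⟩ := fusions
  obtain ⟨p1, p2, -⟩ := tabI
  obtain ⟨p3, p4, -⟩ := tabII
  rcases h with ⟨a, s, ha, hc⟩ | ⟨z, s, hz, hc⟩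
  · left
    rcases scale_two C l1 p1 l2 p2 ha (solveI C) (b := s) with h' | h'
    · refine hc.trans C (h'.trans C ?_)
      rw [pairW_one, pairW_one]
      exact (fuse C f1).symm C
    · refine hc.trans C (h'.trans C ?_)
      rw [pairW_two, pairW_one]
      exact fuse C f2
  · rcases scale_two C l3 p3 l4 p4 hz (solveII C) (b := s) with h' | h'
    · refine Or.inr (hc.trans C (h'.trans C ?_))
      rw [pairW_one, pairW_one]
      exact (fuse C f4).symm C
    · refine Or.inl (hc.trans C (h'.trans C ?_))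
      rw [pairW_two, pairW_one]
      exact (fuse C f3).symm C

end CfsgLib.Chev.TwistInvol.F4
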