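import Cfsg.Agent.Lib.Known.TwistInvol.F4Tools

/-!
# The reduction of the involutions of the groups of type ²F₄

An involution of the positive unipotent group is carried by the orbit reflections to one with a
nonzero fundamental coordinate, and layer by layer to a product of two commuting pairs.
-/

set_option autoImplicit false
set_option maxRecDepth 20000
set_option synthInstance.maxSize 4000
set_option Elab.async false

namespace CfsgLib.Chev.TwistInvol.F4

open Cfsg.Lie CfsgLib.Chev.Table CfsgLib.Chev.EvenInvol CfsgLib.Chev.LacedInvol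

universe v

/-- A pair of roots exchanged by the twist, the first one short. -/
def pairB (r s : ℕ) : Bool :=
  decide (24 ≤ r ∧ r < 48 ∧ 24 ≤ s ∧ s < 48) && parF4.rho r == s && parF4.rho s == r &&
    parF4.lam r == 2 && parF4.lam s == 1 && parF4.commB chevF4 r s && commT2 DataF4.tab r s

theorem nh : chevF4.nroots = 48 ∧ chevF4.nroots / 2 = 24 := by decide +kernel

/-- The layers of the first case. -/
theorem tabI :
    pairB 33 24 = true ∧ pairB 39 45 = true ∧
    (lyB [27, 25, 34, 26] [28, 29, 30, 31, 32, 35, 36, 37, 38, 39, 40, 41, 42, 43, 44, 45, 46, 47] = true ∧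
      actB DataF4.tab [27, 25, 34, 26] [28, 29, 30, 31, 32, 35, 36, 37, 38, 39, 40, 41, 42, 43, 44, 45, 46, 47] 33 [(27, 34, 1)] = true ∧
      actB DataF4.tab [27, 25, 34, 26] [28, 29, 30, 31, 32, 35, 36, 37, 38, 39, 40, 41, 42, 43, 44, 45, 46, 47] 24 [(25, 26, 1)] = true) ∧
    (lyB [28, 30, 35, 31, 29, 41, 36, 42] [32, 37, 38, 39, 40, 43, 44, 45, 46, 47] = true ∧
      actB DataF4.tab [28, 30, 35, 31, 29, 41, 36, 42] [32, 37, 38, 39, 40, 43, 44, 45, 46, 47] 33 [(28, 35, 1), (30, 41, 2), (31, 42, 2), (29, 36, 1)] = true ∧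
      actB DataF4.tab [28, 30, 35, 31, 29, 41, 36, 42] [32, 37, 38, 39, 40, 43, 44, 45, 46, 47] 24 [(28, 29, 1), (30, 31, 1), (35, 36, 1), (41, 42, 1)] = true) ∧
    (lyB [37, 32, 38, 43] [39, 40, 44, 45, 46, 47] = true ∧
      actB DataF4.tab [37, 32, 38, 43] [39, 40, 44, 45, 46, 47] 33 [(32, 43, 2)] = true ∧
      actB DataF4.tab [37, 32, 38, 43] [39, 40, 44, 45, 46, 47] 24 [(37, 38, 1)] = true) ∧
    lyB [39, 45] [40, 44, 46, 47] = true ∧
    (lyB [40, 46, 44, 47] [] = true ∧
      actB DataF4.tab [40, 46, 44, 47] [] 33 [(40, 44, 1)] = true ∧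
      actB DataF4.tab [40, 46, 44, 47] [] 24 [(46, 47, 1)] = true ∧
      actB DataF4.tab [40, 46, 44, 47] [] 39 [] = true ∧
      actB DataF4.tab [40, 46, 44, 47] [] 45 [] = true) ∧
    commT2 DataF4.tab 33 39 = true ∧ commT2 DataF4.tab 33 45 = true ∧
    commT2 DataF4.tab 24 39 = true ∧ commT2 DataF4.tab 24 45 = true := by
  decide +kernel

/-- The images of the first fundamental orbits used in the first case. -/
theorem imgI :
    ([f4a, f4b, f4ab, f4aab].map (img [⟨1, by decide⟩, ⟨0, by decide⟩])) = [35, 31, 40, 46] ∧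
    ([f4a, f4b, f4ab, f4aab].map (img [])) = [27, 25, 28, 30] ∧
    [f4p1, f4p4].map (img [⟨1, by decide⟩]) = [37, 32] := by
  decide +kernel

/-- The layers of the second case. -/
theorem tabII :
    pairB 28 30 = true ∧ pairB 44 47 = true ∧
    (lyB [28, 30, 35, 31] [26, 29, 32, 34, 36, 37, 38, 39, 40, 41, 42, 43, 44, 45, 46, 47] = true ∧
      actB DataF4.tab [28, 30, 35, 31] [26, 29, 32, 34, 36, 37, 38, 39, 40, 41, 42, 43, 44, 45, 46, 47] 33 [(28, 35, 1)] = true ∧
      actB DataF4.tab [28, 30, 35, 31] [26, 29, 32, 34, 36, 37, 38, 39, 40, 41, 42, 43, 44, 45, 46, 47] 24 [(30, 31, 1)] = true) ∧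
    (lyB [34, 26, 37, 32] [29, 36, 38, 39, 40, 41, 42, 43, 44, 45, 46, 47] = true ∧
      actB DataF4.tab [34, 26, 37, 32] [29, 36, 38, 39, 40, 41, 42, 43, 44, 45, 46, 47] 28 [(34, 37, 1)] = true ∧
      actB DataF4.tab [34, 26, 37, 32] [29, 36, 38, 39, 40, 41, 42, 43, 44, 45, 46, 47] 30 [(26, 32, 1)] = true) ∧
    (lyB [36, 42, 39, 45] [29, 38, 40, 41, 43, 44, 46, 47] = true ∧
      actB DataF4.tab [36, 42, 39, 45] [29, 38, 40, 41, 43, 44, 46, 47] 28 [(36, 39, 1)] = true ∧
      actB DataF4.tab [36, 42, 39, 45] [29, 38, 40, 41, 43, 44, 46, 47] 30 [(42, 45, 1)] = true) ∧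
    (lyB [38, 43, 40, 46] [29, 41, 44, 47] = true ∧
      actB DataF4.tab [38, 43, 40, 46] [29, 41, 44, 47] 28 [(38, 40, 1)] = true ∧
      actB DataF4.tab [38, 43, 40, 46] [29, 41, 44, 47] 30 [(43, 46, 1)] = true) ∧
    (∀ r ∈ [29, 41, 44, 47], commT2 DataF4.tab 28 r = true ∧ commT2 DataF4.tab 30 r = true) ∧
    lyB [29, 41] [44, 47] = true ∧
    (lyB [44, 47] [] = true ∧ actB DataF4.tab [44, 47] [] 29 [] = true ∧
      actB DataF4.tab [44, 47] [] 41 [] = true) := by
  decide +kernel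

/-- The images used in the second case. -/
theorem imgII :
    ([f4a, f4b, f4ab, f4aab].map (img [⟨0, by decide⟩])) = [34, 26, 36, 42] ∧
    [f4p1, f4p4].map (img [⟨0, by decide⟩, ⟨1, by decide⟩]) = [38, 43] := by
  decide +kernel

/-- The product of the odd terms of a quadruple. -/
def quadB (a b c d : ℕ) : Bool :=
  decide (a < 48 ∧ b < 48) && !Nat.beq b a && !Nat.beq b (DataF4.tab.neg a) &&
    ((termsT DataF4.tab a b).map fun x => (x.1, decide (x.2.1 % 2 = 1), x.2.2)) ==
      [(c, true, (1, 1)), (d, true, (2, 1))] &&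
    parF4.rho a == b && parF4.lam a == 2

theorem quadG : quadB 29 41 44 47 = true := by decide +kernel

variable {K : Type v} [Field K] [Fintype K] {m : ℕ} (C : TwF4.Ctx K m) [CharP K 2]
include C

/-- The twisted group. -/
local notation "G" => twistedF4 K (2 ^ m)

/-- A fixed element on a pair, by the short parameter. -/
noncomputable def pairW (r s : ℕ) (a : K) : GL chevF4.Idx K :=
  xU chevF4 r a * xU chevF4 s (C.f a ^ 2)

theorem pairW_comm {r s : ℕ} (h : pairB r s = true) (a b : K) :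
    Commute (xU chevF4 r a) (xU chevF4 s b) := by
  simp only [pairB, Bool.and_eq_true, decide_eq_true_eq, beq_iff_eq] at h
  exact C.sig.commute_xU (nh.1.symm ▸ h.1.1.1.1.1.1.2.1) (nh.1.symm ▸ h.1.1.1.1.1.1.2.2.2) h.1.2 a b

theorem pairW_mem {r s : ℕ} (h : pairB r s = true) (a : K) : pairW C r s a ∈ G := by
  have hcm := pairW_comm C h
  simp only [pairB, Bool.and_eq_true, decide_eq_true_eq, beq_iff_eq] at h
  obtain ⟨⟨⟨⟨⟨⟨⟨hr', hr, hs', hs⟩, e1⟩, e2⟩, l1⟩, l2⟩, -⟩, -⟩ := h
  have hrN : r < chevF4.nroots := nh.1.symm ▸ hr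
  have hsN : s < chevF4.nroots := nh.1.symm ▸ hs
  refine C.sys.posU_le ⟨mem_fixS.2 ?_, Subgroup.mul_mem _
    (xU_mem_rootClosure (P := fun k => chevF4.nroots / 2 ≤ k) hrN (nh.2.symm ▸ hr') _)
    (xU_mem_rootClosure (P := fun k => chevF4.nroots / 2 ≤ k) hsN (nh.2.symm ▸ hs') _)⟩
  have hi := (C.sig.img_xU hrN a).mul (C.sig.img_xU hsN (C.f a ^ 2))
  rw [e1, e2, coef_eq C hrN, coef_eq C hsN, l1, l2, pow_one, C.theta', ← (hcm a (C.f a ^ 2)).eq] at hi
  exact hi

theorem pairW_sq {r s : ℕ} (h : pairB r s = true) (a : K) : pairW C r s a * pairW C r s a = 1 := by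
  have hcm := pairW_comm C h a (C.f a ^ 2)
  simp only [pairB, Bool.and_eq_true, decide_eq_true_eq] at h
  rw [pairW, hcm.symm.mul_mul_mul_comm, DataF4.facts.xU_add (nh.1.symm ▸ h.1.1.1.1.1.1.2.1),
    DataF4.facts.xU_add (nh.1.symm ▸ h.1.1.1.1.1.1.2.2.2), CharTwo.add_self_eq_zero,
    CharTwo.add_self_eq_zero, DataF4.facts.xU_zero (nh.1.symm ▸ h.1.1.1.1.1.1.2.1),
    DataF4.facts.xU_zero (nh.1.symm ▸ h.1.1.1.1.1.1.2.2.2), one_mul]

theorem pairW_inv {r s : ℕ} (h : pairB r s = true) (a : K) : (pairW C r s a)⁻¹ = pairW C r s a :=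
  inv_eq_of_mul_eq_one_right (pairW_sq C h a)

/-- The action of a pair on coordinates. -/
theorem pair_act {L M : List ℕ} (h : lyB L M = true) {r s : ℕ} (hp : pairB r s = true)
    {Δr Δs : List (ℕ × ℕ × ℕ)} (hr : actB DataF4.tab L M r Δr = true)
    (hs : actB DataF4.tab L M s Δs = true) (a : K) (g : GL chevF4.Idx K) (f : ℕ → K)
    (hf : IsCd chevF4 L M g f) :
    IsCd chevF4 L M (pairW C r s a * g * pairW C r s a) (actF Δr a (actF Δs (C.f a ^ 2) f)) := by
  have := (layer h).act C.sig.hC hr a ((layer h).act C.sig.hC hs (C.f a ^ 2) hf)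
  rw [show pairW C r s a * g * pairW C r s a = pairW C r s a * g * (pairW C r s a)⁻¹ by
    rw [pairW_inv C hp], pairW]
  rw [mul_inv_rev]
  simpa only [mul_assoc] using this

/-- Conjugacy in the twisted group. -/
def Cj (_C : TwF4.Ctx K m) (g g' : GL chevF4.Idx K) : Prop := ∃ y ∈ G, y * g * y⁻¹ = g'

theorem Cj.refl (g : GL chevF4.Idx K) : Cj C g g := ⟨1, Subgroup.one_mem _, by simp⟩

theorem Cj.trans {g g' g'' : GL chevF4.Idx K} (h : Cj C g g') (h' : Cj C g' g'') : Cj C g g'' := by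
  obtain ⟨x, hx, rfl⟩ := h
  obtain ⟨y, hy, rfl⟩ := h'
  exact ⟨y * x, Subgroup.mul_mem _ hy hx, by group⟩

theorem sq_of_cj {g g' : GL chevF4.Idx K} (h : Cj C g g') (hg : g * g = 1) : g' * g' = 1 := by
  obtain ⟨x, -, rfl⟩ := h
  rw [show x * g * x⁻¹ * (x * g * x⁻¹) = x * (g * g) * x⁻¹ by group, hg]
  group

omit C [Fintype K] [CharP K 2] in
theorem closure_sub {A B : List ℕ} (h : A.all (fun r => B.elem r) = true) :
    rootClosure chevF4 K (· ∈ A) ≤ rootClosure chevF4 K (· ∈ B) :=
  rootClosure_mono fun r _ hr => by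
    have := List.all_eq_true.1 h r hr
    simpa using this

/-- One layer of the reduction. -/
theorem step {L M : List ℕ} (h : lyB L M = true) {X : GL chevF4.Idx K} (hXG : X ∈ G)
    (hX : X * X = 1) {φ : (ℕ → K) → ℕ → K}
    (hφ : ∀ g f, IsCd chevF4 L M g f → IsCd chevF4 L M (X * g * X) (φ f))
    {w : GL chevF4.Idx K} (hwG : w ∈ G) (hwm : w ∈ rootClosure chevF4 K (· ∈ L ++ M))
    (hu : X * w * (X * w) = 1) (S : List ℕ)
    (hS : L.all (fun r => S.any fun s => L.elem s && (r == s || r == parF4.rho s)) = true)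
    (choose : ∀ f : ℕ → K, (∀ r ∈ L, φ f r = f r) →
      ∃ y ∈ G, ∃ fy, IsCd chevF4 L M y fy ∧ ∀ s ∈ S, φ fy s + f s + fy s = 0) :
    ∃ w' ∈ G, w' ∈ rootClosure chevF4 K (· ∈ M) ∧ X * w' * (X * w') = 1 ∧
      Cj C (X * w) (X * w') := by
  obtain ⟨f, hf⟩ := (layer h).exists_cd C.sig.hC hwm
  obtain ⟨y, hy, fy, hfy, h0⟩ := choose f (fixed_cd C h hφ hu hf)
  obtain ⟨w', e, hw'⟩ := conj_cd C h hX hφ hf hfy
  have hcj : Cj C (X * w) (X * w') := ⟨y, hy, e⟩
  have hmem : w' ∈ G := by
    have := Subgroup.mul_mem _ hXG (show X * w' ∈ G from e ▸ Subgroup.mul_mem _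
      (Subgroup.mul_mem _ hy (Subgroup.mul_mem _ hXG hwG)) (Subgroup.inv_mem _ hy))
    rwa [← mul_assoc, hX, one_mul] at this
  exact ⟨w', hmem, mem_below C h (C.sys.le_fix hmem) hw' S hS h0, sq_of_cj C hcj hu, hcj⟩

/-- A fixed element of a layer is a pair element times one below. -/
theorem split_pair {L M : List ℕ} (h : lyB L M = true) {r s : ℕ} (hL : L = [r, s])
    (hp : pairB r s = true) {w : GL chevF4.Idx K} (hwG : w ∈ G)
    (hwm : w ∈ rootClosure chevF4 K (· ∈ L ++ M)) :
    ∃ a : K, ∃ w' ∈ G, w' ∈ rootClosure chevF4 K (· ∈ M) ∧ w = pairW C r s a * w' ∧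
      IsCd chevF4 L M w (fun k => if k = r then a else C.f a ^ 2) := by
  subst hL
  obtain ⟨f, hf⟩ := (layer h).exists_cd C.sig.hC hwm
  have e := rel C h (C.sys.le_fix hwG) hf r (by simp)
  have hp' := hp
  simp only [pairB, Bool.and_eq_true, decide_eq_true_eq, beq_iff_eq] at hp'
  obtain ⟨⟨⟨⟨⟨⟨⟨-, hr, -⟩, e1⟩, -⟩, l1⟩, -⟩, -⟩, -⟩ := hp'
  rw [e1, coef_eq C (nh.1.symm ▸ hr), l1] at e
  have hne : s ≠ r := by
    have := (List.nodup_append.1 (Facts.coord_nodup (layer h).coord)).1
    simp only [List.nodup_cons, List.mem_singleton] at this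
    exact Ne.symm this.1
  have hcd : IsCd chevF4 [r, s] M w (fun k => if k = r then f r else C.f (f r) ^ 2) :=
    (layer h).congr C.sig.hC hf fun k hk => by
      simp only [List.mem_cons, List.not_mem_nil, or_false] at hk
      rcases hk with rfl | rfl
      · rw [if_pos rfl]
      · rw [if_neg hne, e]
  refine ⟨f r, pairW C r s (f r) * w, Subgroup.mul_mem _ (pairW_mem C hp _) hwG, ?_, ?_, hcd⟩
  · have := hcd
    rw [IsCd, show PF chevF4 [r, s] (fun k => if k = r then f r else C.f (f r) ^ 2) =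
      pairW C r s (f r) by simp [PF, pairW, hne], pairW_inv C hp] at this
    exact this
  · rw [← mul_assoc, pairW_sq C hp, one_mul]

theorem f_ne {a : K} (ha : a ≠ 0) : C.f a ^ 2 ≠ 0 := pow_ne_zero _ ((map_ne_zero C.f).2 ha)

/-! ### The first case -/

theorem commute_pairs {r s r' s' : ℕ} (hp : pairB r s = true) (hp' : pairB r' s' = true)
    (h1 : commT2 DataF4.tab r r' = true) (h2 : commT2 DataF4.tab r s' = true)
    (h3 : commT2 DataF4.tab s r' = true) (h4 : commT2 DataF4.tab s s' = true) (a b : K) :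
    Commute (pairW C r s a) (pairW C r' s' b) := by
  simp only [pairB, Bool.and_eq_true, decide_eq_true_eq] at hp hp'
  have hlt : ∀ {x}, x < 48 → x < chevF4.nroots := fun h => nh.1.symm ▸ h
  have c : ∀ {x y : ℕ}, x < 48 → y < 48 → commT2 DataF4.tab x y = true → ∀ t u : K,
      Commute (xU chevF4 x t) (xU chevF4 y u) := fun hx hy h t u => by
    obtain ⟨e1, e2, e3⟩ := commT2_spec DataF4.chk_arrays DataF4.chk_chain DataF4.short (hlt hx) (hlt hy) h
    exact commute_even DataF4.facts C.sig.hC (hlt hx) (hlt hy) e1 e2 e3 t u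
  have b1 := hp.1.1.1.1.1.1.2.1
  have b2 := hp.1.1.1.1.1.1.2.2.2
  have b3 := hp'.1.1.1.1.1.1.2.1
  have b4 := hp'.1.1.1.1.1.1.2.2.2
  exact ((c b1 b3 h1 _ _).mul_right (c b1 b4 h2 _ _)).mul_left
    ((c b2 b3 h3 _ _).mul_right (c b2 b4 h4 _ _))

/-- An involution with a nonzero first coordinate. -/
theorem caseI {a : K} (ha : a ≠ 0) {w : GL chevF4.Idx K} (hwG : w ∈ G)
    (hw : w ∈ rootClosure chevF4 K (· ∈ [25, 26, 27, 28, 29, 30, 31, 32, 34, 35, 36, 37, 38, 39, 40, 41,
      42, 43, 44, 45, 46, 47]))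
    (hu : pairW C 33 24 a * w * (pairW C 33 24 a * w) = 1) :
    ∃ s : K, Cj C (pairW C 33 24 a * w) (pairW C 33 24 a * pairW C 39 45 s) := by
  have hC := C.sig.hC
  obtain ⟨pA, pH, ⟨y1, a1, b1⟩, ⟨y2, a2, b2⟩, ⟨y3, a3, b3⟩, y4, ⟨y5, a5, b5, c5, d5⟩,
    k1, k2, k3, k4⟩ := tabI
  obtain ⟨iB, i0, iC⟩ := imgI
  simp only [List.map_cons, List.map_nil, List.cons.injEq, and_true] at iB i0 iC
  obtain ⟨iBa, iBb, iBc, iBd⟩ := iB
  obtain ⟨i0a, i0b, i0c, i0d⟩ := i0
  obtain ⟨iCa, iCd⟩ := iC
  set X := pairW C 33 24 a with hXdef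
  set b := C.f a ^ 2 with hb
  have hb0 : b ≠ 0 := f_ne C ha
  have hXG : X ∈ G := pairW_mem C pA a
  have hX : X * X = 1 := pairW_sq C pA a
  -- first layer
  obtain ⟨w1, g1, m1, u1, c1⟩ := step C y1 hXG hX (pair_act C y1 pA a1 b1 a) hwG
    (closure_sub (by decide) hw) hu [27, 34] (by decide) fun f hf => by
      have e : f 27 = 0 := by
        have := hf 34 (by simp)
        simpa [actF, ha] using this
      obtain ⟨y, hy, fy, hfy, e1, e2⟩ := elemB C [] y1 (by rw [i0a, i0b, i0c, i0d]; decide) (f 34 / a)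
      refine ⟨y, hy, fy, hfy, fun s hs => ?_⟩
      rw [i0a, i0b, i0d] at e2
      rw [i0a] at e1
      have h34 := e2 34 (by decide) (by decide) (by decide)
      simp only [List.mem_cons, List.not_mem_nil, or_false] at hs
      rcases hs with rfl | rfl <;>
        simp [actF, e, e1, h34, CharTwo.add_self_eq_zero, mul_div_cancel₀ _ ha]
  -- second layer
  obtain ⟨w2, g2, m2, u2, c2⟩ := step C y2 hXG hX (pair_act C y2 pA a2 b2 a) g1
    (closure_sub (by decide) m1) u1 [28, 35, 29, 36] (by decide) fun f hf => by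
      have e : f 28 = 0 := by
        have := hf 35 (by simp)
        simpa [actF, ha] using this
      have e' : b * f 35 + a * f 29 = 0 := by
        have := hf 36 (by simp)
        simp [actF, e, ← hb] at this
        linear_combination this
      obtain ⟨y, hy, fy, hfy, e1, e2⟩ := elemZ C [] y2 (by rw [i0c, i0d]; decide) (f 35 / a)
      obtain ⟨y', hy', fy', hfy', e1', e2'⟩ := elemB C [⟨1, by decide⟩, ⟨0, by decide⟩] y2
        (by rw [iBa, iBb, iBc, iBd]; decide) ((f 36 + b * f 35) / b)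
      refine ⟨y * y', Subgroup.mul_mem _ hy hy', _, (layer y2).mul C.sig.hC hfy hfy', fun s hs => ?_⟩
      rw [i0c, i0d] at e2
      rw [i0c] at e1
      rw [iBa, iBb, iBd] at e2'
      rw [iBa] at e1'
      have z1 := e2 35 (by decide) (by decide)
      have z2 := e2 29 (by decide) (by decide)
      have z3 := e2 36 (by decide) (by decide)
      have z4 := e2' 28 (by decide) (by decide) (by decide)
      have z5 := e2' 29 (by decide) (by decide) (by decide)
      have z6 := e2' 36 (by decide) (by decide) (by decide)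
      simp only [List.mem_cons, List.not_mem_nil, or_false] at hs
      rcases hs with rfl | rfl | rfl | rfl <;>
        simp [actF, e, e1, e1', z1, z2, z3, z4, z5, z6, ← hb] <;> field_simp <;>
        first
          | linear_combination (CharTwo.two_eq_zero : (2 : K) = 0) * f 35
          | linear_combination e'
          | linear_combination (CharTwo.two_eq_zero : (2 : K) = 0) * (f 36 + b * f 35)
          | linear_combination (CharTwo.two_eq_zero : (2 : K) = 0) * (f 36 + 2 * (b * f 35))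
  -- third layer
  obtain ⟨w3, g3, m3, u3, c3⟩ := step C y3 hXG hX (pair_act C y3 pA a3 b3 a) g2
    (closure_sub (by decide) m2) u2 [37, 38] (by decide) fun f hf => by
      have e : f 37 = 0 := by
        have := hf 38 (by simp)
        simpa [actF, hb0, ← hb, (map_ne_zero C.f).2 ha] using this
      obtain ⟨y, hy, fy, hfy, e1, e2⟩ := elemA C [⟨1, by decide⟩] y3 (by rw [iCa, iCd]; decide) (f 38 / b)
      refine ⟨y, hy, fy, hfy, fun s hs => ?_⟩
      rw [iCa, iCd] at e2
      rw [iCa] at e1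
      have h38 := e2 38 (by decide) (by decide)
      simp only [List.mem_cons, List.not_mem_nil, or_false] at hs
      rcases hs with rfl | rfl <;>
        simp [actF, e, e1, h38, CharTwo.add_self_eq_zero, ← hb, mul_div_cancel₀ _ hb0]
  -- the orthogonal pair
  obtain ⟨s, w4, g4, m4, rfl, -⟩ := split_pair C y4 rfl pH g3 (closure_sub (by decide) m3)
  have hXH := commute_pairs C pA pH k1 k2 k3 k4 a s
  obtain ⟨w5, -, m5, -, c5'⟩ := step C y5 (X := X * pairW C 39 45 s)
    (Subgroup.mul_mem _ hXG (pairW_mem C pH s))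
    (by rw [hXH.symm.mul_mul_mul_comm, hX, pairW_sq C pH, one_mul])
    (fun g f hf => by
      have := pair_act C y5 pA a5 b5 a _ _ (pair_act C y5 pH c5 d5 s g f hf)
      rw [show X * pairW C 39 45 s * g * (X * pairW C 39 45 s) =
        X * (pairW C 39 45 s * g * pairW C 39 45 s) * X by
          conv_lhs => arg 2; rw [hXH.eq, ← hXdef]
          group]
      exact this)
    g4 (closure_sub (by decide) m4) (by rw [mul_assoc X]; exact u3) [40, 44] (by decide) fun f hf => by
      have e : f 40 = 0 := by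
        have := hf 44 (by simp)
        simpa [actF, ha] using this
      obtain ⟨y, hy, fy, hfy, e1, e2⟩ := elemZ C [⟨1, by decide⟩, ⟨0, by decide⟩] y5
        (by rw [iBc, iBd]; decide) (f 44 / a)
      refine ⟨y, hy, fy, hfy, fun k hk => ?_⟩
      rw [iBc, iBd] at e2
      rw [iBc] at e1
      have h44 := e2 44 (by decide) (by decide)
      simp only [List.mem_cons, List.not_mem_nil, or_false] at hk
      rcases hk with rfl | rfl <;>
        simp [actF, e, e1, h44, CharTwo.add_self_eq_zero, mul_div_cancel₀ _ ha]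
  have hw5 : w5 = 1 := by
    have : rootClosure chevF4 K (· ∈ ([] : List ℕ)) = ⊥ := by
      refine eq_bot_iff.2 ((Subgroup.closure_le _).2 ?_)
      rintro x ⟨r, t, -, h, -⟩
      simp at h
    rwa [this, Subgroup.mem_bot] at m5
  refine ⟨s, c1.trans C (c2.trans C (c3.trans C ?_))⟩
  rw [hw5, mul_one] at c5'
  rwa [mul_assoc] at c5'

/-- An involution of a quadruple lies in its centre. -/
theorem quad_sq {a b c d : ℕ} {M : List ℕ} (hq : quadB a b c d = true)
    (h1 : lyB [a, b] (c :: d :: M) = true) (h2 : lyB [c, d] M = true)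
    (ha : actB DataF4.tab [c, d] M a [] = true) (hb : actB DataF4.tab [c, d] M b [] = true)
    {w : GL chevF4.Idx K} (hwG : w ∈ G)
    (hwm : w ∈ rootClosure chevF4 K (· ∈ a :: b :: c :: d :: M)) (hw2 : w * w = 1) :
    w ∈ rootClosure chevF4 K (· ∈ c :: d :: M) := by
  have hC := C.sig.hC
  have hF := DataF4.facts
  simp only [quadB, Bool.and_eq_true, decide_eq_true_eq, beq_iff_eq, Bool.not_eq_true'] at hq
  obtain ⟨⟨⟨⟨⟨⟨haN, hbN⟩, q1⟩, q2⟩, qt⟩, qr⟩, ql⟩ := hq
  have haN' : a < chevF4.nroots := nh.1.symm ▸ haN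
  have hbN' : b < chevF4.nroots := nh.1.symm ▸ hbN
  have hne : b ≠ a := fun e => by rw [e] at q1; simp at q1
  have hneg : b ≠ chevF4.neg a := fun e => by
    rw [neg_eq DataF4.chk_arrays haN'] at e; rw [e] at q2; simp at q2
  have hnd := Facts.coord_nodup (layer h2).coord
  simp only [List.cons_append, List.nil_append, List.nodup_cons, List.mem_cons, not_or] at hnd
  have hcd : d ≠ c := Ne.symm hnd.1.1
  obtain ⟨f, hf⟩ := (layer h1).exists_cd hC hwm
  have e := rel C h1 (C.sys.le_fix hwG) hf a (by simp)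
  rw [qr, coef_eq C haN', ql] at e
  set p := f a
  set q := f b
  set g := xU chevF4 a p * xU chevF4 b q
  obtain ⟨z, hz, rfl⟩ : ∃ z ∈ rootClosure chevF4 K (· ∈ c :: d :: M), w = g * z :=
    ⟨g⁻¹ * w, by simpa [IsCd, PF, g, p, q] using hf, by group⟩
  obtain ⟨fz, hfz⟩ := (layer h2).exists_cd hC hz
  have hW : IsCd chevF4 [c, d] M (wU chevF4 (cwR chevF4 a b p q)) (single c (p * q) + single d (p ^ 2 * q)) := by
    rw [cwR, termsT_eq DataF4.chk_arrays DataF4.chk_chain DataF4.short haN' hbN']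
    generalize termsT DataF4.tab a b = T at qt
    rcases T with - | ⟨⟨k1, z1, i1, j1⟩, - | ⟨⟨k2, z2, i2, j2⟩, - | ⟨_, _⟩⟩⟩ <;> simp at qt
    obtain ⟨⟨rfl, o1, rfl, rfl⟩, rfl, o2, rfl, rfl⟩ := qt
    simp only [wU, List.map_cons, List.map_nil, List.prod_cons, List.prod_nil, mul_one, pow_one,
      C.intCast_odd o1, C.intCast_odd o2, one_mul, CharTwo.neg_eq]
    exact (layer h2).mul hC ((layer h2).gen hC (by simp) _) ((layer h2).gen hC (by simp) _)
  -- conjugation by the two roots fixes the coordinates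
  have cb : ∀ (t : K) (x : GL chevF4.Idx K) (fx : ℕ → K), IsCd chevF4 [c, d] M x fx →
      IsCd chevF4 [c, d] M (xU chevF4 b t * x * (xU chevF4 b t)⁻¹) fx := fun t x fx hx =>
    (layer h2).congr hC ((layer h2).act hC hb t hx) fun k _ => by simp [actF]
  have ca : ∀ (t : K) (x : GL chevF4.Idx K) (fx : ℕ → K), IsCd chevF4 [c, d] M x fx →
      IsCd chevF4 [c, d] M (xU chevF4 a t * x * (xU chevF4 a t)⁻¹) fx := fun t x fx hx =>
    (layer h2).congr hC ((layer h2).act hC ha t hx) fun k _ => by simp [actF]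
  have hcomm := hF.xU_comm hC haN' hbN' hne hneg p q
  have hbb : ∀ t : K, xU chevF4 b t * xU chevF4 b t = 1 := fun t => by
    rw [hF.xU_add hbN', CharTwo.add_self_eq_zero, hF.xU_zero hbN']
  have haa : ∀ t : K, xU chevF4 a t * xU chevF4 a t = 1 := fun t => by
    rw [hF.xU_add haN', CharTwo.add_self_eq_zero, hF.xU_zero haN']
  have hgg : g * g = xU chevF4 b q * wU chevF4 (cwR chevF4 a b p q) * (xU chevF4 b q)⁻¹ := by
    calc g * g = xU chevF4 a p * (xU chevF4 b q * xU chevF4 a p) * xU chevF4 b q := by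
          simp only [g]; group
      _ = (xU chevF4 a p * xU chevF4 a p) * xU chevF4 b q * wU chevF4 (cwR chevF4 a b p q) *
            xU chevF4 b q := by rw [hcomm]; group
      _ = _ := by rw [haa, one_mul, inv_eq_of_mul_eq_one_right (hbb q)]
  have hgz := cb (-q) _ _ (ca (-p) z fz hfz)
  rw [← hF.xU_inv haN', ← hF.xU_inv hbN', inv_inv, inv_inv,
    show (xU chevF4 b q)⁻¹ * ((xU chevF4 a p)⁻¹ * z * xU chevF4 a p) * xU chevF4 b q = g⁻¹ * z * g by
      simp only [g]; group] at hgz
  have htot := (layer h2).mul hC ((layer h2).mul hC (cb q _ _ hW) hgz) hfz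
  rw [← hgg, show g * g * (g⁻¹ * z * g) * z = g * z * (g * z) by group, hw2] at htot
  have := (layer h2).unique hC htot ((layer h2).of_mem hC (Subgroup.one_mem _)) c (by simp)
  have hpq : p * q = 0 := by
    simpa [single, hcd, Ne.symm hcd, add_assoc, CharTwo.add_self_eq_zero] using this
  have hp0 : p = 0 := by
    rcases mul_eq_zero.1 hpq with h | h
    · exact h
    · exact (map_eq_zero C.f).1 (pow_eq_zero_iff two_ne_zero |>.1 (e ▸ h))
  have hq0 : q = 0 := by rw [e, hp0, map_zero, zero_pow two_ne_zero]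
  refine (layer h1).mem_of_zero hC hf fun r hr => ?_
  simp only [List.mem_cons, List.not_mem_nil, or_false] at hr
  rcases hr with rfl | rfl
  exacts [hp0, hq0]

/-- An involution with a nonzero central coordinate of the first quadruple. -/
theorem caseII {z : K} (hz : z ≠ 0) {w : GL chevF4.Idx K} (hwG : w ∈ G)
    (hw : w ∈ rootClosure chevF4 K (· ∈ [26, 29, 31, 32, 34, 35, 36, 37, 38, 39, 40, 41, 42, 43, 44,
      45, 46, 47]))
    (hu : pairW C 28 30 z * w * (pairW C 28 30 z * w) = 1) :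
    ∃ s : K, Cj C (pairW C 28 30 z * w) (pairW C 28 30 z * pairW C 44 47 s) := by
  have hC := C.sig.hC
  obtain ⟨pZ, pG, ⟨y0, a0, b0⟩, ⟨y1, a1, b1⟩, ⟨y2, a2, b2⟩, ⟨y3, a3, b3⟩, hcomm, y4, y5, a5, b5⟩ := tabII
  obtain ⟨pA, -⟩ := tabI
  obtain ⟨iD, iE⟩ := imgII
  obtain ⟨-, i0, -⟩ := imgI
  simp only [List.map_cons, List.map_nil, List.cons.injEq, and_true] at iD iE i0
  obtain ⟨iDa, iDb, iDc, iDd⟩ := iD
  obtain ⟨iEa, iEd⟩ := iE
  set X := pairW C 28 30 z with hXdef
  have hXG : X ∈ G := pairW_mem C pZ z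
  have hX : X * X = 1 := pairW_sq C pZ z
  -- remove the coordinate at 35 by the first orbit
  obtain ⟨w0, g0, m0, u0, c0⟩ : ∃ w' ∈ G,
      w' ∈ rootClosure chevF4 K (· ∈ [26, 29, 32, 34, 36, 37, 38, 39, 40, 41, 42, 43, 44, 45, 46, 47]) ∧
      X * w' * (X * w') = 1 ∧ Cj C (X * w) (X * w') := by
    obtain ⟨f, hf⟩ := (layer y0).exists_cd hC (closure_sub (by decide) hw)
    obtain ⟨hm28, hm30⟩ : 28 ∈ [28, 30, 35, 31] ∧ 30 ∈ [28, 30, 35, 31] := by simp
    have hXcd : IsCd chevF4 [28, 30, 35, 31] _ X (single 28 z + single 30 (C.f z ^ 2)) :=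
      (layer y0).mul hC ((layer y0).gen hC hm28 z) ((layer y0).gen hC hm30 _)
    have hf28 : f 28 = 0 := by
      obtain ⟨g, hg⟩ := (layer y0).exists_cd hC (closure_sub (A := [26, 29, 31, 32, 34, 35, 36, 37, 38,
        39, 40, 41, 42, 43, 44, 45, 46, 47]) (by decide) hw)
      have hzero : ∀ x ∈ rootClosure chevF4 K (· ∈ [26, 29, 31, 32, 34, 35, 36, 37, 38,
          39, 40, 41, 42, 43, 44, 45, 46, 47]), ∀ e, IsCd chevF4 [28, 30, 35, 31]
            [26, 29, 32, 34, 36, 37, 38, 39, 40, 41, 42, 43, 44, 45, 46, 47] x e → e 28 = 0 := by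
        intro x hx
        induction hx using Subgroup.closure_induction with
        | mem x hx =>
          obtain ⟨r, t, hr, hrm, rfl⟩ := hx
          intro e he
          have hr' : r ∈ [28, 30, 35, 31] ++
              [26, 29, 32, 34, 36, 37, 38, 39, 40, 41, 42, 43, 44, 45, 46, 47] := by
            revert hrm; simp; omega
          rw [(layer y0).unique hC he ((layer y0).gen_or hC hr' t) 28 hm28]
          have : r ≠ 28 := by rintro rfl; simp at hrm
          split_ifs <;> simp [single, Ne.symm this]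
        | one =>
          intro e he
          exact (layer y0).unique hC he ((layer y0).of_mem hC (Subgroup.one_mem _)) 28 hm28
        | mul x y hx hy ihx ihy =>
          intro e he
          obtain ⟨ex, hex⟩ := (layer y0).exists_cd hC (closure_sub (by decide) hx)
          obtain ⟨ey, hey⟩ := (layer y0).exists_cd hC (closure_sub (by decide) hy)
          rw [(layer y0).unique hC he ((layer y0).mul hC hex hey) 28 hm28, Pi.add_apply, ihx ex hex,
            ihy ey hey, add_zero]
        | inv x hx ihx =>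
          intro e he
          have := cd_inv C y0 he
          rw [inv_inv] at this
          exact ihx e this
      exact hzero w hw f hf
    set c := f 35 / z
    set Y := pairW C 33 24 c with hY
    have hcd := pair_act C y0 pA a0 b0 c _ _ ((layer y0).mul hC hXcd hf)
    have hYG : Y ∈ G := pairW_mem C pA c
    have hcj : Cj C (X * w) (Y * (X * w) * Y) := ⟨Y, hYG, by rw [pairW_inv C pA]⟩
    refine ⟨X * (Y * (X * w) * Y), Subgroup.mul_mem _ hXG
      (Subgroup.mul_mem _ (Subgroup.mul_mem _ hYG (Subgroup.mul_mem _ hXG hwG)) hYG), ?_, ?_, ?_⟩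
    · refine mem_below C y0 (C.sys.le_fix (Subgroup.mul_mem _ hXG
        (Subgroup.mul_mem _ (Subgroup.mul_mem _ hYG (Subgroup.mul_mem _ hXG hwG)) hYG)))
        ((layer y0).mul hC hXcd hcd) [28, 35] (by decide) fun s hs => ?_
      simp only [List.mem_cons, List.not_mem_nil, or_false] at hs
      rcases hs with rfl | rfl <;>
        simp [actF, single, hf28, c, CharTwo.add_self_eq_zero] <;> field_simp <;>
        simp [CharTwo.add_self_eq_zero]
    · rw [← mul_assoc X X, hX, one_mul]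
      exact sq_of_cj C hcj hu
    · rw [← mul_assoc X X, hX, one_mul]
      exact hcj
  obtain ⟨w1, g1, m1, u1, c1⟩ := step C y1 hXG hX (pair_act C y1 pZ a1 b1 z) g0
    (closure_sub (by decide) m0) u0 [34, 37] (by decide) fun f hf => by
      have e : f 34 = 0 := by
        have := hf 37 (by simp)
        simpa [actF, hz] using this
      obtain ⟨y, hy, fy, hfy, e1, e2⟩ := elemB C [⟨0, by decide⟩] y1
        (by rw [iDa, iDb, iDc, iDd]; decide) (f 37 / z)
      refine ⟨y, hy, fy, hfy, fun s hs => ?_⟩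
      rw [iDa, iDb, iDd] at e2
      rw [iDa] at e1
      have h0 := e2 37 (by decide) (by decide) (by decide)
      simp only [List.mem_cons, List.not_mem_nil, or_false] at hs
      rcases hs with rfl | rfl <;>
        simp [actF, e, e1, h0, CharTwo.add_self_eq_zero, mul_div_cancel₀ _ hz]
  obtain ⟨w2, g2, m2, u2, c2⟩ := step C y2 hXG hX (pair_act C y2 pZ a2 b2 z) g1
    (closure_sub (by decide) m1) u1 [36, 39] (by decide) fun f hf => by
      have e : f 36 = 0 := by
        have := hf 39 (by simp)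
        simpa [actF, hz] using this
      obtain ⟨y, hy, fy, hfy, e1, e2⟩ := elemZ C [⟨0, by decide⟩] y2
        (by rw [iDc, iDd]; decide) (f 39 / z)
      refine ⟨y, hy, fy, hfy, fun s hs => ?_⟩
      rw [iDc, iDd] at e2
      rw [iDc] at e1
      have h0 := e2 39 (by decide) (by decide)
      simp only [List.mem_cons, List.not_mem_nil, or_false] at hs
      rcases hs with rfl | rfl <;>
        simp [actF, e, e1, h0, CharTwo.add_self_eq_zero, mul_div_cancel₀ _ hz]
  obtain ⟨w3, g3, m3, u3, c3⟩ := step C y3 hXG hX (pair_act C y3 pZ a3 b3 z) g2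
    (closure_sub (by decide) m2) u2 [38, 40] (by decide) fun f hf => by
      have e : f 38 = 0 := by
        have := hf 40 (by simp)
        simpa [actF, hz] using this
      obtain ⟨y, hy, fy, hfy, e1, e2⟩ := elemA C [⟨0, by decide⟩, ⟨1, by decide⟩] y3
        (by rw [iEa, iEd]; decide) (f 40 / z)
      refine ⟨y, hy, fy, hfy, fun s hs => ?_⟩
      rw [iEa, iEd] at e2
      rw [iEa] at e1
      have h0 := e2 40 (by decide) (by decide)
      simp only [List.mem_cons, List.not_mem_nil, or_false] at hs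
      rcases hs with rfl | rfl <;>
        simp [actF, e, e1, h0, CharTwo.add_self_eq_zero, mul_div_cancel₀ _ hz]
  have hc : Commute X w3 := by
    clear u3 g3 c3
    induction m3 using Subgroup.closure_induction with
    | mem x hx =>
      obtain ⟨r, t, hr, hrm, rfl⟩ := hx
      have hlt : ∀ {k}, k < 48 → k < chevF4.nroots := fun h => nh.1.symm ▸ h
      obtain ⟨k28, k30⟩ := hcomm r hrm
      obtain ⟨p1, p2, p3⟩ := commT2_spec DataF4.chk_arrays DataF4.chk_chain DataF4.short
        (hlt (k := 28) (by norm_num)) hr k28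
      obtain ⟨q1, q2, q3⟩ := commT2_spec DataF4.chk_arrays DataF4.chk_chain DataF4.short
        (hlt (k := 30) (by norm_num)) hr k30
      exact (commute_even DataF4.facts hC (hlt (k := 28) (by norm_num)) hr p1 p2 p3 z t).mul_left
        (commute_even DataF4.facts hC (hlt (k := 30) (by norm_num)) hr q1 q2 q3 _ t)
    | one => exact Commute.one_right _
    | mul _ _ _ _ h h' => exact h.mul_right h'
    | inv _ _ h => exact h.inv_right
  have hw3 : w3 * w3 = 1 := by
    rwa [hc.symm.mul_mul_mul_comm, hX, one_mul] at u3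
  have m4 := quad_sq C (a := 29) (b := 41) (c := 44) (d := 47) (M := []) quadG y4 y5 a5 b5 g3 m3 hw3
  obtain ⟨s, w4, -, m5, e4, -⟩ := split_pair C y5 rfl pG g3 m4
  refine ⟨s, c0.trans C (c1.trans C (c2.trans C (c3.trans C ?_)))⟩
  have hw4 : w4 = 1 := by
    have : rootClosure chevF4 K (· ∈ ([] : List ℕ)) = ⊥ := by
      refine eq_bot_iff.2 ((Subgroup.closure_le _).2 ?_)
      rintro x ⟨r, t, -, h, -⟩
      simp at h
    rwa [this, Subgroup.mem_bot] at m5
  rw [e4, hw4, mul_one]
  exact Cj.refl C _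

end CfsgLib.Chev.TwistInvol.F4
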